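import Groth.Agent.SDiv.K471.NormAmple
import Groth.Agent.Ega2.H292.NormData
import Groth.Agent.Ega2.BasSec

/-!
# Norms of invertible modules under finite morphisms with a norm, relative ampleness

Let `π : X ⟶ Y` be finite with a norm `N` of degree `d`, `L` a module on `X` with generators over the preimages of the
members `V i` of a cover of `Y`, and transition functions `g i j`, and `M` the module on `Y` with generators over the
`V i` and transition functions `N (g i j)`.  If `L` is ample on `π⁻¹ U` then `M` is ample on `U` (`ampleOn`).  Hence if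
`L` is relatively ample over `S` then so is `M` (`isRelAmple`).
Every invertible module on `X` is trivial on the preimages of the members of some cover of `Y` by affine opens
(`exists_trivs_preimage`).
-/

set_option autoImplicit false
universe u

open CategoryTheory CategoryTheory.Limits AlgebraicGeometry TopologicalSpace

namespace K754.NormAmpleOn

open Groth.Agent.Ega2.ExtCoeff Groth.Agent.Ega2.Nv Groth.Agent.Ega2.Ample Groth.Agent.Fdesc.LocGen
open Groth.Agent.Ega2.RelAmp Groth.Agent.Flat2H.FamDict Groth.Agent.Divis.NormSheaf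
open Groth.Agent.Ega2.H292.NormData

variable {X Y : Scheme.{u}} {π : X ⟶ Y} {d : ℕ} (N : Nrm.NormOfDegree π d)

/-- Norms of sections of powers. -/
theorem exists_norm_section [IsFinite π] {ι : Type*} {V : ι → Y.Opens}
    {L : X.Modules} {g : ∀ i j, Γ(X, π ⁻¹ᵁ V i ⊓ π ⁻¹ᵁ V j)} (hL : Trivs L (fun i ↦ π ⁻¹ᵁ V i) g)
    {M : Y.Modules} (hM : Trivs M V (fun i j ↦ N.norm (V i ⊓ V j) (g i j)))
    {U : Y.Opens} {m : ℕ} (s : Γ(CohB1.tensorPow L m, π ⁻¹ᵁ U)) :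
    ∃ t : Γ(CohB1.tensorPow M m, U),
      (∀ y ∈ U, y ∈ nv _ t ↔ ∀ x : X, π x = y → x ∈ nv _ s) ∧
      (∀ W : Y.Opens, W ≤ U → (∃ i, W ≤ V i) → ∃ c : Γ(Y, W), W ⊓ nv _ t = Y.basicOpen c) := by
  obtain ⟨-, e, he, hg⟩ := hL
  obtain ⟨hcovY, ε, hε, hγ⟩ := hM
  have hW : ∀ i, U ⊓ V i ≤ U := fun i => inf_le_left
  have hWV : ∀ i, U ⊓ V i ≤ V i := fun i => inf_le_right
  have hcov : U ≤ ⨆ i, U ⊓ V i := by
    intro y hy
    obtain ⟨i, hi⟩ := hcovY y
    exact Opens.mem_iSup.2 ⟨i, hy, hi⟩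
  have hpre : ∀ {A B : Y.Opens}, A ≤ B → π ⁻¹ᵁ A ≤ π ⁻¹ᵁ B := fun h => π.preimage_mono h
  -- the coefficients of `s`
  have hgen : ∀ i, IsGen (pow (res L (hpre (hWV i)) (e i)) m) := fun i => ((he i).res _).pow m
  have hb : ∀ i, ∃ b : Γ(X, π ⁻¹ᵁ (U ⊓ V i)), res _ (hpre (hW i)) s =
      b • pow (res L (hpre (hWV i)) (e i)) m := fun i => (hgen i).exists_eq _
  choose b hb using hb
  have hle : ∀ i j, (U ⊓ V i) ⊓ (U ⊓ V j) ≤ V i ⊓ V j := fun i j => inf_le_inf (hWV i) (hWV j)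
  have hg' : ∀ i j, res L (inf_le_left : π ⁻¹ᵁ V i ⊓ π ⁻¹ᵁ V j ≤ π ⁻¹ᵁ V i) (e i) =
      g i j • res L (inf_le_right : π ⁻¹ᵁ V i ⊓ π ⁻¹ᵁ V j ≤ π ⁻¹ᵁ V j) (e j) := hg
  have hleX : ∀ i j, π ⁻¹ᵁ ((U ⊓ V i) ⊓ (U ⊓ V j)) ≤ π ⁻¹ᵁ V i ⊓ π ⁻¹ᵁ V j := fun i j => hpre (hle i j)
  have hrel : ∀ i j, ores (hpre (inf_le_right : (U ⊓ V i) ⊓ (U ⊓ V j) ≤ U ⊓ V j)) (b j) =
      ores (hpre (inf_le_left : (U ⊓ V i) ⊓ (U ⊓ V j) ≤ U ⊓ V i)) (b i) *
        (ores (hleX i j) (g i j)) ^ m := fun i j =>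
    coef_rel s (hpre (hW i)) (hpre (hW j)) (hgen j) _ _ (hb i) (hb j) _ (by
      have h1 := congrArg (res L (hleX i j)) (hg' i j)
      rw [res_smul, res_res, res_res] at h1
      rw [res_pow, res_pow, res_res, res_res]
      refine (congrArg (fun z => pow z m) h1).trans ?_
      exact Groth.Agent.Fdesc.LocGen.smul_pow _ _ _)
  let c : ∀ i, Γ(Y, U ⊓ V i) := fun i => N.norm (U ⊓ V i) (b i)
  have hNres : ∀ {A B : Y.Opens} (h : A ≤ B) (x : Γ(X, π ⁻¹ᵁ B)),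
      N.norm A (ores (hpre h) x) = ores h (N.norm B x) := fun h x =>
    (K471.NormAmple.ores_norm N h x).symm
  obtain ⟨t, ht⟩ := exists_of_coef (CohB1.tensorPow M m) (fun i => U ⊓ V i) hW hcov
    (fun i => pow (res M (hWV i) (ε i)) m) c
    (fun i j => (ores (hle i j) (N.norm (V i ⊓ V j) (g i j))) ^ m)
    (fun i j => by
      have h1 := congrArg (res M (hle i j)) (hγ i j)
      rw [res_smul, res_res, res_res] at h1
      rw [res_pow, res_pow, res_res, res_res]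
      refine (congrArg (fun z => pow z m) h1).trans ?_
      exact Groth.Agent.Fdesc.LocGen.smul_pow _ _ _)
    (fun i j => by
      have h1 := congrArg (N.norm ((U ⊓ V i) ⊓ (U ⊓ V j))) (hrel i j)
      rw [map_mul, map_pow] at h1
      have h2 := hNres (inf_le_right : (U ⊓ V i) ⊓ (U ⊓ V j) ≤ U ⊓ V j) (b j)
      have h3 := hNres (inf_le_left : (U ⊓ V i) ⊓ (U ⊓ V j) ≤ U ⊓ V i) (b i)
      have h4 := hNres (hle i j) (g i j)
      refine h2.symm.trans (h1.trans ?_)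
      rw [h3]
      congr 2)
  have hnvt : ∀ i, (U ⊓ V i) ⊓ nv _ t = Y.basicOpen (c i) := fun i =>
    nv_inf_of_eq_smul t (hW i) (((hε i).res _).pow m) (c i) (ht i)
  have hnvs : ∀ i, π ⁻¹ᵁ (U ⊓ V i) ⊓ nv _ s = X.basicOpen (b i) := fun i =>
    nv_inf_of_eq_smul s (hpre (hW i)) (hgen i) (b i) (hb i)
  refine ⟨t, ?_, ?_⟩
  · intro y hy
    obtain ⟨i, hi⟩ := hcovY y
    have h1 : y ∈ nv _ t ↔ y ∈ Y.basicOpen (c i) := by
      rw [← hnvt i]
      exact ⟨fun h => ⟨⟨hy, hi⟩, h⟩, fun h => h.2⟩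
    rw [h1, K471.NormAmple.basicOpen_norm, mem_core]
    refine forall_congr' fun x => imp_congr_right fun hx => ?_
    rw [← hnvs i]
    refine ⟨fun h => h.2, fun h => ⟨?_, h⟩⟩
    change π x ∈ U ⊓ V i
    rw [hx]
    exact ⟨hy, hi⟩
  · rintro W hWU ⟨i, hWi⟩
    have hWW : W ≤ U ⊓ V i := le_inf hWU hWi
    refine ⟨ores hWW (c i), ?_⟩
    rw [Groth.Agent.Flat2H.FamExt.basicOpen_res, ← hnvt i, ← inf_assoc, inf_eq_left.2 hWW]

include N in
/-- Ampleness on an open subset descends. -/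
theorem ampleOn [IsFinite π] {ι : Type*} {V : ι → Y.Opens}
    {L : X.Modules} {g : ∀ i j, Γ(X, π ⁻¹ᵁ V i ⊓ π ⁻¹ᵁ V j)} (hL : Trivs L (fun i ↦ π ⁻¹ᵁ V i) g)
    {M : Y.Modules} (hM : Trivs M V (fun i j ↦ N.norm (V i ⊓ V j) (g i j)))
    {U : Y.Opens} (hamp : AmpleOn L (π ⁻¹ᵁ U)) : AmpleOn M U := by
  have hsurj : Surjective π := K471.NormAmple.surjective_of_norm N
  have hU : IsCompact (U : Set Y) := by
    have h1 : π '' ((π ⁻¹ᵁ U : X.Opens) : Set X) = (U : Set Y) :=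
      Set.image_preimage_eq _ π.surjective
    rw [← h1]
    exact hamp.isCompact.image π.continuous
  refine ⟨?_, hU, ?_⟩
  · intro y hy
    obtain ⟨hcovY, ε, hε, -⟩ := hM
    obtain ⟨i, hi⟩ := hcovY y
    exact ⟨V i ⊓ U, res M inf_le_left (ε i), ⟨hi, hy⟩, inf_le_right, (hε i).res _⟩
  · intro y hy
    obtain ⟨i, hi⟩ := hM.1 y
    obtain ⟨_, ⟨A, hA, rfl⟩, hyA, hAV⟩ := Y.isBasis_affineOpens.exists_subset_of_mem_open
      (show y ∈ (V i ⊓ U : Y.Opens) from ⟨hi, hy⟩) (V i ⊓ U).2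
    have hAU : A ≤ U := fun z hz => (hAV hz).2
    have hAi : A ≤ V i := fun z hz => (hAV hz).1
    obtain ⟨m, hm, s, hs1, hs2⟩ := exists_nv_of_finite hamp (π ⁻¹' {y}) (π.finite_preimage_singleton y)
      (π ⁻¹ᵁ A) (by
        intro x hx
        change π x ∈ A
        rwa [show π x = y from hx]) (π.preimage_mono hAU)
    obtain ⟨t, ht1, ht2⟩ := exists_norm_section N hL hM s
    obtain ⟨c, hc⟩ := ht2 A hAU ⟨i, hAi⟩
    have hle : nv _ t ≤ A := by
      intro z hz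
      have hzU : z ∈ U := nv_le _ t hz
      obtain ⟨x, rfl⟩ := π.surjective z
      exact hs2 ((ht1 _ hzU).1 hz x rfl)
    refine ⟨m, hm, t, (ht1 y hy).2 (fun x hx => hs1 hx), ?_⟩
    rw [inf_eq_right.2 hle] at hc
    rw [hc]
    exact IsAffineOpen.basicOpen hA c

include N in
/-- Relative ampleness descends. -/
theorem isRelAmple [IsFinite π] {ι : Type*} {V : ι → Y.Opens}
    {L : X.Modules} {g : ∀ i j, Γ(X, π ⁻¹ᵁ V i ⊓ π ⁻¹ᵁ V j)} (hL : Trivs L (fun i ↦ π ⁻¹ᵁ V i) g)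
    {M : Y.Modules} (hM : Trivs M V (fun i j ↦ N.norm (V i ⊓ V j) (g i j)))
    {S : Scheme.{u}} (h : Y ⟶ S) (hamp : RelAmple.IsRelAmple (π ≫ h) L) : RelAmple.IsRelAmple h M := by
  rw [isRelAmple_iff] at hamp ⊢
  have key : ∀ W : S.affineOpens, AmpleOn M (h ⁻¹ᵁ W.1) := fun W =>
    ampleOn N hL hM (U := h ⁻¹ᵁ W.1) (hamp.2 W)
  exact ⟨quasiCompact_iff_forall_isAffineOpen.2 fun W hW => (key ⟨W, hW⟩).isCompact, key⟩

/-- An invertible module on the source of a finite morphism is trivial on the preimages of the members of a cover of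
the target. -/
theorem exists_trivs_preimage (π : X ⟶ Y) [IsFinite π] {L : X.Modules} (hL : PicF.IsInvertible L) :
    ∃ (ι : Type u) (V : ι → Y.Opens) (g : ∀ i j, Γ(X, π ⁻¹ᵁ V i ⊓ π ⁻¹ᵁ V j)),
      (∀ i, IsAffineOpen (V i)) ∧ (∀ y, ∃ i, y ∈ V i) ∧ Trivs L (fun i ↦ π ⁻¹ᵁ V i) g := by
  have hL1 : FlatMod.IsFinLocFreeOfRank 1 L :=
    Groth.Agent.Ega2.QCohLocal.isFinLocFreeOfRank_one_iff.2 hL
  have key : ∀ y : Y, ∃ V : Y.Opens, y ∈ V ∧ IsAffineOpen V ∧ ∃ e : Γ(L, π ⁻¹ᵁ V), IsGen e := by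
    intro y
    obtain ⟨_, ⟨A, hA, rfl⟩, hyA, -⟩ := Y.isBasis_affineOpens.exists_subset_of_mem_open
      (show y ∈ (⊤ : Y.Opens) from trivial) (⊤ : Y.Opens).2
    have hA' : IsAffineOpen (π ⁻¹ᵁ A) := IsAffineOpen.preimage hA π
    obtain ⟨f, e, hf, he⟩ := Groth.Agent.Ega2.BasSec.exists_isBas_of_finite hL1 hA' (π ⁻¹' {y})
      (π.finite_preimage_singleton y) (by
        intro x hx
        change π x ∈ A
        rwa [show π x = y from hx])
    have he' : IsGen (e 0) := by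
      intro W hW
      have h1 := he W hW
      have h2 : (fun a : Γ(X, W) => a • res L hW (e 0)) =
          Groth.Agent.Ega2.BasSec.comb (fun i => res L hW (e i)) ∘ (fun a _ => a) := by
        funext a
        simp [Groth.Agent.Ega2.BasSec.comb]
      rw [h2]
      refine h1.comp ⟨fun a b h => congrFun h 0, fun v => ⟨v 0, ?_⟩⟩
      funext i
      rw [Subsingleton.elim i 0]
    obtain ⟨_, ⟨B, hB, rfl⟩, hyB, hBc⟩ := Y.isBasis_affineOpens.exists_subset_of_mem_open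
      (show y ∈ core π (X.basicOpen f) from (mem_core π _ y).2 (fun x hx => hf hx))
      (core π (X.basicOpen f)).2
    have hle : π ⁻¹ᵁ B ≤ X.basicOpen f := fun x hx => preimage_core_le π _ (hBc hx)
    exact ⟨B, hyB, hB, res L hle (e 0), he'.res hle⟩
  choose V hyV hVa e he using key
  obtain ⟨g, hg⟩ := exists_trans (L := L) (fun y => π ⁻¹ᵁ V y) e he
  exact ⟨Y, V, g, hVa, fun y => ⟨y, hyV y⟩, fun x => ⟨π x, hyV _⟩, e, he, hg⟩

include N in
/-- Relatively ample modules descend along finite morphisms with a norm. -/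
theorem exists_isRelAmple [IsFinite π] {S : Scheme.{u}} (h : Y ⟶ S) {L : X.Modules}
    (hinv : PicF.IsInvertible L) (hamp : RelAmple.IsRelAmple (π ≫ h) L) :
    ∃ M : Y.Modules, RelAmple.IsRelAmple h M := by
  obtain ⟨ι, V, g, -, hcov, htr⟩ := exists_trivs_preimage π hinv
  obtain ⟨M, hM⟩ := K471.NormAmple.exists_norm N hcov htr
  exact ⟨M, isRelAmple N htr hM h hamp⟩

end K754.NormAmpleOn
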