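import Groth.Agent.ZeroCyc.K754.QuotNorm
import Groth.Agent.ZeroCyc.K754.NormAmpleOn
import Groth.Agent.Ega2.FiniteSet
import Groth.Agent.Sga1.QuotExists
import Groth.Agent.S2909
import Groth.Agent.S2925
import Groth.Prelude.Def_RelProj

/-!
# Quotients of quasi-projective schemes by finite groups
-/

set_option autoImplicit false
universe u

open CategoryTheory CategoryTheory.Limits AlgebraicGeometry TopologicalSpace

namespace K754.QuotQProj

open Groth.Agent.Ega2.Nv Groth.Agent.Ega2.Ample Groth.Agent.Ega2.RelAmp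

variable {X S : Scheme.{u}} {f : X ⟶ S}

theorem isInvertible_of_isRelAmple {L : X.Modules} (hL : RelAmple.IsRelAmple f L) :
    PicF.IsInvertible L := by
  rw [← locGen_top_iff]
  rw [isRelAmple_iff] at hL
  intro x _
  obtain ⟨_, ⟨W, hW, rfl⟩, hxW, -⟩ := S.isBasis_affineOpens.exists_subset_of_mem_open
    (show f x ∈ (⊤ : S.Opens) from trivial) (⊤ : S.Opens).2
  obtain ⟨V, e, hxV, -, he⟩ := (hL.2 ⟨W, hW⟩).locGen x hxW
  exact ⟨V, e, hxV, le_top, he⟩

/-- Finite subsets of a fibre of a morphism with a relatively ample module are contained in affine opens. -/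
theorem exists_affine_of_finite {L : X.Modules} (hL : RelAmple.IsRelAmple f L) (Z : Set X)
    (hZ : Z.Finite) (s : S) (hZs : ∀ z ∈ Z, f z = s) : ∃ U : X.Opens, IsAffineOpen U ∧ Z ⊆ U := by
  obtain ⟨_, ⟨W, hW, rfl⟩, hsW, -⟩ := S.isBasis_affineOpens.exists_subset_of_mem_open
    (show s ∈ (⊤ : S.Opens) from trivial) (⊤ : S.Opens).2
  have hamp := hL.2 ⟨W, hW⟩
  let U : X.Opens := f ⁻¹ᵁ W
  obtain ⟨n, t, ht1, -, ht3⟩ := Groth.Agent.Ega2.FiniteSet.exists_affine_genLocus_of_finite hamp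
    (U.ι ⁻¹' Z) (hZ.preimage U.ι.isOpenEmbedding.injective.injOn) ⊤ (fun _ _ => trivial)
  refine ⟨U.ι ''ᵁ (CohB1.genLocus _ t), ht3.image_of_isOpenImmersion U.ι, ?_⟩
  intro z hz
  have hzU : z ∈ U := by
    change f z ∈ W
    rw [hZs z hz]
    exact hsW
  exact ⟨⟨z, hzU⟩, ht1 hz, rfl⟩

theorem exists_isQuot [IsNoetherian S] {G : Type u} [Group G] [Finite G] (ρ : G →* Aut X)
    (hρ : ∀ σ : G, (ρ σ).hom ≫ f = f) (hf : RelProj.IsQuasiProjective f) :
    ∃ (Y : Scheme.{u}) (q : X ⟶ Y) (h : Y ⟶ S),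
      q ≫ h = f ∧ SGA1.IsQuot ρ q ∧ RelProj.IsQuasiProjective h := by
  cases nonempty_fintype G
  obtain ⟨hft, hqc, L, hL⟩ := hf
  obtain ⟨Y, q, hq⟩ := Groth.Agent.Sga1.QuotExists.exists_isQuot ρ (fun x => by
    obtain ⟨U, hU, hZ⟩ := exists_affine_of_finite hL (Set.range fun g : G => (ρ g).hom x)
      (Set.finite_range _) (f x) (by
        rintro _ ⟨g, rfl⟩
        rw [← Scheme.Hom.comp_apply, hρ g])
    exact ⟨U, hU, fun g => hZ ⟨g, rfl⟩⟩)
  obtain ⟨h, hh, -⟩ := Groth.Agent.S2925.result ρ q hq S f hρ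
  obtain ⟨-, -, h3, h4⟩ := Groth.Agent.S2909.result ρ q hq f h hh hρ
  have hfin : IsFinite q := h3 hft
  obtain ⟨h5, h6⟩ := h4 inferInstance hft hqc
  obtain ⟨M, hM⟩ := K754.NormAmpleOn.exists_isRelAmple (K754.QuotNorm.norm hq) h
    (isInvertible_of_isRelAmple hL) (by rw [hh]; exact hL)
  exact ⟨Y, q, h, hh, hq, h5, h6, M, hM⟩

end K754.QuotQProj
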