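import Groth.Agent.ZeroCyc.K754.QuotQProj
import Mathlib.AlgebraicGeometry.Morphisms.Proper

/-!
# Quotients of projective schemes by finite groups

`isProper_of_isQuot`: if `q ≫ h = f` is proper, of finite type over a locally Noetherian scheme, and `q` is a quotient by
a finite group then `h` is proper.  `exists_isQuot_projective`: quotients of projective schemes are projective, given
the comparison of projective with quasi-projective and proper (S4418, S4419).
-/

set_option autoImplicit false
universe u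

open CategoryTheory CategoryTheory.Limits AlgebraicGeometry TopologicalSpace

namespace K754.QuotProj

theorem isProper_of_isQuot {X Y S : Scheme.{u}} [IsLocallyNoetherian S] {G : Type u} [Group G] [Finite G]
    {ρ : G →* Aut X} {q : X ⟶ Y} (hq : SGA1.IsQuot ρ q) {f : X ⟶ S} {h : Y ⟶ S} (hh : q ≫ h = f)
    (hρ : ∀ σ : G, (ρ σ).hom ≫ f = f) [IsProper f] : IsProper h := by
  obtain ⟨-, h2, -, h4⟩ := Groth.Agent.S2909.result ρ q hq f h hh hρ
  obtain ⟨h5, h6⟩ := h4 inferInstance inferInstance inferInstance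
  have h7 : IsSeparated h := h2.1 inferInstance
  have h8 : Surjective q := ⟨Groth.Agent.Sga1.QuotBasic.surjective_of_isQuot hq⟩
  have h9 : UniversallyClosed (q ≫ h) := by rw [hh]; infer_instance
  have h10 : UniversallyClosed h := UniversallyClosed.of_comp_surjective q h
  exact {}

theorem exists_isQuot_projective
    (H1 : ∀ {X Y : Scheme.{u}} (f : X ⟶ Y), RelProj.IsProjective f →
      RelProj.IsQuasiProjective f ∧ IsProper f)
    (H2 : ∀ {X Y : Scheme.{u}}
      (_ : (CompactSpace Y ∧ Y.IsSeparated) ∨ TopologicalSpace.NoetherianSpace Y) (f : X ⟶ Y),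
      RelProj.IsQuasiProjective f → ∀ [IsProper f], RelProj.IsProjective f)
    {X S : Scheme.{u}} (f : X ⟶ S) [IsNoetherian S]
    {G : Type u} [Group G] [Finite G] (ρ : G →* Aut X) (hρ : ∀ σ : G, (ρ σ).hom ≫ f = f)
    (hf : RelProj.IsProjective f) :
    ∃ (Y : Scheme.{u}) (q : X ⟶ Y) (h : Y ⟶ S),
      q ≫ h = f ∧ SGA1.IsQuot ρ q ∧ RelProj.IsProjective h := by
  obtain ⟨hqp, hprop⟩ := H1 f hf
  obtain ⟨Y, q, h, hh, hq, hqph⟩ := K754.QuotQProj.exists_isQuot ρ hρ hqp
  have := isProper_of_isQuot hq hh hρ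
  exact ⟨Y, q, h, hh, hq, H2 (Or.inr inferInstance) h hqph⟩

end K754.QuotProj
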