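import Mathlib.RingTheory.GradedAlgebra.Basic
import Mathlib.Algebra.MvPolynomial.Basic
import Mathlib.RingTheory.Adjoin.FG
import Mathlib.RingTheory.FiniteType
import Mathlib.Algebra.GCDMonoid.Finset
import Mathlib.Algebra.GCDMonoid.Nat

/-!
# Graded algebras generated by finitely many homogeneous elements of positive degrees
-/

set_option autoImplicit false

universe u

namespace K754.GrGen

variable {R A : Type u} [CommRing R] [CommRing A] [Algebra R A] (𝒜 : ℕ → Submodule R A) [GradedAlgebra 𝒜]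
  {s : ℕ} (f : Fin s → A) (deg : Fin s → ℕ)

/-- the monomial `f^e`. -/
def mono (e : Fin s → ℕ) : A := ∏ i, f i ^ e i

theorem mono_add (e e' : Fin s → ℕ) : mono f (e + e') = mono f e * mono f e' := by
  simp [mono, pow_add, Finset.prod_mul_distrib]

theorem mono_single (i : Fin s) (n : ℕ) : mono f (Pi.single i n) = f i ^ n := by
  classical
  unfold mono
  rw [Finset.prod_eq_single i]
  · simp
  · intro j _ hj
    simp [Pi.single_eq_of_ne hj]
  · simp

variable {f deg}

include 𝒜 in
theorem mono_mem (hf : ∀ i, f i ∈ 𝒜 (deg i)) (e : Fin s → ℕ) :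
    mono f e ∈ 𝒜 (∑ i, e i * deg i) := by
  unfold mono
  refine SetLike.prod_mem_graded 𝒜 (fun i => e i * deg i) (fun i => f i ^ e i) (fun i _ => ?_)
  have := SetLike.pow_mem_graded (A := 𝒜) (e i) (hf i)
  simpa using this

/-- `A` is spanned by the monomials in the generators. -/
theorem span_mono (hgen : Algebra.adjoin R (Set.range f) = ⊤) :
    Submodule.span R (Set.range (mono f)) = ⊤ := by
  rw [eq_top_iff]
  intro a _
  have ha : a ∈ Algebra.adjoin R (Set.range f) := by rw [hgen]; trivial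
  induction ha using Algebra.adjoin_induction with
  | mem x hx =>
    obtain ⟨i, rfl⟩ := hx
    refine Submodule.subset_span ⟨Pi.single i 1, ?_⟩
    rw [mono_single, pow_one]
  | algebraMap r =>
    rw [Algebra.algebraMap_eq_smul_one]
    refine Submodule.smul_mem _ _ (Submodule.subset_span ⟨0, by simp [mono]⟩)
  | add x y _ _ hx hy => exact Submodule.add_mem _ (hx trivial) (hy trivial)
  | mul x y _ _ hx hy =>
    have hx := hx trivial
    have hy := hy trivial
    have h := Submodule.mul_mem_mul hx hy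
    rw [Submodule.span_mul_span] at h
    refine Submodule.span_mono ?_ h
    rintro _ ⟨_, ⟨e, rfl⟩, _, ⟨e', rfl⟩, rfl⟩
    exact ⟨e + e', mono_add f e e'⟩

/-- The degree `n` part is spanned by the monomials of degree `n`. -/
theorem eq_span_mono (hf : ∀ i, f i ∈ 𝒜 (deg i)) (hgen : Algebra.adjoin R (Set.range f) = ⊤) (n : ℕ) :
    𝒜 n = Submodule.span R {x | ∃ e : Fin s → ℕ, ∑ i, e i * deg i = n ∧ mono f e = x} := by
  classical
  apply le_antisymm
  · intro a ha
    have key : ∀ b : A, (GradedAlgebra.proj 𝒜 n) b ∈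
        Submodule.span R {x | ∃ e : Fin s → ℕ, ∑ i, e i * deg i = n ∧ mono f e = x} := by
      intro b
      have hb : b ∈ Submodule.span R (Set.range (mono f)) := by rw [span_mono hgen]; trivial
      induction hb using Submodule.span_induction with
      | mem x hx =>
        obtain ⟨e, rfl⟩ := hx
        by_cases he : ∑ i, e i * deg i = n
        · have h1 : (GradedAlgebra.proj 𝒜 n) (mono f e) = mono f e := by
            rw [GradedAlgebra.proj_apply]
            exact DirectSum.decompose_of_mem_same 𝒜 (he ▸ mono_mem 𝒜 hf e)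
          rw [h1]
          exact Submodule.subset_span ⟨e, he, rfl⟩
        · have h1 : (GradedAlgebra.proj 𝒜 n) (mono f e) = 0 := by
            rw [GradedAlgebra.proj_apply]
            exact DirectSum.decompose_of_mem_ne 𝒜 (mono_mem 𝒜 hf e) he
          rw [h1]
          exact Submodule.zero_mem _
      | zero => rw [map_zero]; exact Submodule.zero_mem _
      | add x y _ _ hx hy => rw [map_add]; exact Submodule.add_mem _ hx hy
      | smul r x _ hx => rw [map_smul]; exact Submodule.smul_mem _ _ hx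
    have h := key a
    rwa [GradedAlgebra.proj_apply, DirectSum.decompose_of_mem_same 𝒜 ha] at h
  · rw [Submodule.span_le]
    rintro _ ⟨e, rfl, rfl⟩
    exact mono_mem 𝒜 hf e

theorem mul_le (m n : ℕ) : 𝒜 m * 𝒜 n ≤ 𝒜 (m + n) :=
  Submodule.mul_le.mpr fun _ ha _ hb => SetLike.mul_mem_graded ha hb

theorem lcm_pos (hdeg : ∀ i, 0 < deg i) : 0 < Finset.univ.lcm deg := by
  rw [Nat.pos_iff_ne_zero, Ne, Finset.lcm_eq_zero_iff]
  rintro ⟨i, _, hi⟩
  exact (hdeg i).ne' hi

theorem dvd_lcm (i : Fin s) : deg i ∣ Finset.univ.lcm deg := Finset.dvd_lcm (Finset.mem_univ i)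

/-- In high degree some variable occurs with an exponent contributing at least the lcm. -/
theorem exists_large (hdeg : ∀ i, 0 < deg i) (n : ℕ) (hn : (s - 1) * (Finset.univ.lcm deg - 1) ≤ n)
    (e : Fin s → ℕ) (he : ∑ i, e i * deg i = n + Finset.univ.lcm deg) :
    ∃ i, Finset.univ.lcm deg ≤ e i * deg i := by
  by_contra hcon
  push Not at hcon
  set l := Finset.univ.lcm deg with hl
  have hlpos : 0 < l := lcm_pos hdeg
  have h1 : ∑ i, e i * deg i ≤ ∑ _i : Fin s, (l - 1) :=
    Finset.sum_le_sum fun i _ => by have := hcon i; omega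
  rw [he, Finset.sum_const, Finset.card_univ, Fintype.card_fin, smul_eq_mul] at h1
  rcases Nat.eq_zero_or_pos s with hs | hs
  · subst hs
    simp at h1
    omega
  · obtain ⟨s', rfl⟩ : ∃ s', s = s' + 1 := ⟨s - 1, by omega⟩
    simp only [Nat.add_sub_cancel] at hn
    have : (s' + 1) * (l - 1) = s' * (l - 1) + (l - 1) := by ring
    omega

theorem degree_add_lcm (hdeg : ∀ i, 0 < deg i) (hf : ∀ i, f i ∈ 𝒜 (deg i))
    (hgen : Algebra.adjoin R (Set.range f) = ⊤) (n : ℕ)
    (hn : (s - 1) * (Finset.univ.lcm deg - 1) ≤ n) :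
    𝒜 (n + Finset.univ.lcm deg) = 𝒜 n * 𝒜 (Finset.univ.lcm deg) := by
  classical
  refine le_antisymm ?_ (mul_le 𝒜 _ _)
  rw [eq_span_mono 𝒜 hf hgen (n + Finset.univ.lcm deg), Submodule.span_le]
  rintro _ ⟨e, he, rfl⟩
  obtain ⟨i, hi⟩ := exists_large hdeg n hn e he
  set l := Finset.univ.lcm deg with hl
  obtain ⟨c, hc⟩ : deg i ∣ l := dvd_lcm i
  have hce : c ≤ e i := by
    rw [hc, mul_comm] at hi
    exact Nat.le_of_mul_le_mul_right hi (hdeg i)
  let e' : Fin s → ℕ := e - Pi.single i c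
  have hle : Pi.single i c ≤ e := by
    intro j
    by_cases hj : j = i
    · subst hj; simpa using hce
    · simp [Pi.single_eq_of_ne hj]
  have hee : e = e' + Pi.single i c := by
    funext j
    exact (Nat.sub_add_cancel (hle j)).symm
  have hsingle : ∑ j, (Pi.single i c : Fin s → ℕ) j * deg j = l := by
    rw [Finset.sum_eq_single i]
    · simp [hc, mul_comm]
    · intro j _ hj; simp [Pi.single_eq_of_ne hj]
    · simp
  have he' : ∑ j, e' j * deg j = n := by
    have h2 : ∑ j, e j * deg j = ∑ j, e' j * deg j + ∑ j, (Pi.single i c : Fin s → ℕ) j * deg j := by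
      rw [← Finset.sum_add_distrib]
      refine Finset.sum_congr rfl fun j _ => ?_
      rw [← add_mul, ← Pi.add_apply, ← hee]
    rw [hsingle, he] at h2
    omega
  rw [hee, mono_add]
  refine Submodule.mul_mem_mul ?_ ?_
  · have := mono_mem 𝒜 hf e'
    rwa [he'] at this
  · have := mono_mem 𝒜 hf (Pi.single i c)
    rwa [hsingle] at this

theorem degree_add_mul_lcm (hdeg : ∀ i, 0 < deg i) (hf : ∀ i, f i ∈ 𝒜 (deg i))
    (hgen : Algebra.adjoin R (Set.range f) = ⊤) (n : ℕ)
    (hn : (s - 1) * (Finset.univ.lcm deg - 1) ≤ n) (b : ℕ) :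
    𝒜 (n + b * Finset.univ.lcm deg) = 𝒜 n * 𝒜 (Finset.univ.lcm deg) ^ b := by
  induction b with
  | zero =>
    rw [Nat.zero_mul, add_zero, pow_zero, mul_one]
  | succ b ih =>
    have h1 : n + (b + 1) * Finset.univ.lcm deg = (n + b * Finset.univ.lcm deg) + Finset.univ.lcm deg := by ring
    rw [h1, degree_add_lcm 𝒜 hdeg hf hgen _ (hn.trans (Nat.le_add_right _ _)), ih, pow_succ, mul_assoc]

theorem pow_le (m k : ℕ) : 𝒜 m ^ k ≤ 𝒜 (k * m) := by
  induction k with
  | zero =>
    rw [pow_zero, Nat.zero_mul, Submodule.one_le]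
    exact SetLike.GradedOne.one_mem
  | succ k ih =>
    rw [pow_succ, Nat.succ_mul]
    exact (mul_le_mul' ih le_rfl).trans (mul_le 𝒜 _ _)

theorem degree_zero (hdeg : ∀ i, 0 < deg i) (hf : ∀ i, f i ∈ 𝒜 (deg i))
    (hgen : Algebra.adjoin R (Set.range f) = ⊤) : 𝒜 0 = 1 := by
  apply le_antisymm
  · rw [eq_span_mono 𝒜 hf hgen 0, Submodule.span_le]
    rintro _ ⟨e, he, rfl⟩
    have h1 : ∀ i, e i = 0 := by
      intro i
      have h2 := (Finset.sum_eq_zero_iff.mp he) i (Finset.mem_univ i)
      rcases Nat.mul_eq_zero.mp h2 with h | h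
      · exact h
      · exact absurd h (hdeg i).ne'
    have h2 : mono f e = 1 := by simp [mono, h1]
    rw [h2]
    exact Submodule.one_le.mp le_rfl
  · exact Submodule.one_le.mpr SetLike.GradedOne.one_mem

theorem degree_mul_eq_pow (hdeg : ∀ i, 0 < deg i) (hf : ∀ i, f i ∈ 𝒜 (deg i))
    (hgen : Algebra.adjoin R (Set.range f) = ⊤) (a : ℕ) (ha : s - 1 ≤ a) (k : ℕ) :
    𝒜 (k * (a * Finset.univ.lcm deg)) = 𝒜 (a * Finset.univ.lcm deg) ^ k := by
  induction k with
  | zero => rw [Nat.zero_mul, pow_zero, degree_zero 𝒜 hdeg hf hgen]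
  | succ k ih =>
    set l := Finset.univ.lcm deg with hl
    rcases Nat.eq_zero_or_pos k with hk | hk
    · subst hk
      rw [zero_add, one_mul, pow_one]
    refine le_antisymm ?_ (pow_le 𝒜 _ _)
    have h1 : (k + 1) * (a * l) = k * (a * l) + a * l := by ring
    have h2 : (s - 1) * (l - 1) ≤ k * (a * l) := by
      calc (s - 1) * (l - 1) ≤ a * l := Nat.mul_le_mul ha (Nat.sub_le _ _)
        _ ≤ k * (a * l) := Nat.le_mul_of_pos_left _ hk
    rw [h1, degree_add_mul_lcm 𝒜 hdeg hf hgen _ h2 a, ih, pow_succ]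
    exact mul_le_mul' le_rfl (pow_le 𝒜 _ _)

end K754.GrGen
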