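import Mathlib.SetTheory.Cardinal.Finite
import Mathlib.SetTheory.Cardinal.Order
import Mathlib.LinearAlgebra.Span.Basic
import Mathlib.Algebra.Field.Basic
import Mathlib.Tactic.LinearCombination

/-!
# A vector space over a field with at least `n` elements is not a union of `n` proper subspaces
-/

set_option autoImplicit false

universe u v w

namespace K754.Avoid

theorem exists_not_mem_finset {K : Type u} (S : Finset K) (h : (S.card : Cardinal) < Cardinal.mk K) :
    ∃ c : K, c ∉ S := by
  by_contra hcon
  push Not at hcon
  have h1 : Cardinal.mk K ≤ S.card := by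
    rw [← Cardinal.mk_univ, ← Cardinal.mk_coe_finset]
    exact Cardinal.mk_le_mk_of_subset (fun x _ => hcon x)
  exact absurd h (not_lt.mpr h1)

/-- A vector space over a field with at least `n` elements is not the union of `n` proper subspaces. -/
theorem exists_not_mem {K : Type u} {V : Type v} [Field K] [AddCommGroup V] [Module K V] {ι : Type w}
    (t : Finset ι) (W : ι → Submodule K V) (hW : ∀ i ∈ t, W i ≠ ⊤)
    (hcard : (t.card : Cardinal) ≤ Cardinal.mk K) : ∃ v : V, ∀ i ∈ t, v ∉ W i := by
  classical
  induction t using Finset.induction_on with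
  | empty => exact ⟨0, by simp⟩
  | insert j t hj ih =>
    rw [Finset.card_insert_of_notMem hj] at hcard
    obtain ⟨v, hv⟩ := ih (fun i hi => hW i (Finset.mem_insert_of_mem hi))
      (le_trans (by exact_mod_cast Nat.le_succ _) hcard)
    by_cases hvj : v ∉ W j
    · refine ⟨v, fun i hi => ?_⟩
      rcases Finset.mem_insert.mp hi with rfl | hi
      · exact hvj
      · exact hv i hi
    push Not at hvj
    obtain ⟨c, hc⟩ : ∃ c, c ∉ W j := by
      by_contra hcon
      push Not at hcon
      exact hW j (Finset.mem_insert_self _ _) (eq_top_iff.mpr fun x _ => hcon x)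
    by_cases hci : ∀ i ∈ t, c ∉ W i
    · refine ⟨c, fun i hi => ?_⟩
      rcases Finset.mem_insert.mp hi with rfl | hi
      · exact hc
      · exact hci i hi
    push Not at hci
    obtain ⟨i0, hi0, hci0⟩ := hci
    -- the bad scalar for each index
    have hbad : ∀ i : ι, ∃ m : K, ∀ l : K, l ≠ 0 → i ∈ t → v + l • c ∈ W i → l = m := by
      intro i
      by_cases h : ∃ m : K, m ≠ 0 ∧ v + m • c ∈ W i
      · obtain ⟨m, hm0, hm⟩ := h
        refine ⟨m, fun l hl hi hli => ?_⟩
        by_contra hne
        have h1 : (l - m) • c ∈ W i := by
          have := Submodule.sub_mem _ hli hm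
          rwa [add_sub_add_left_eq_sub, ← sub_smul] at this
        have h2 : c ∈ W i := by
          have := (W i).smul_mem (l - m)⁻¹ h1
          rwa [smul_smul, inv_mul_cancel₀ (sub_ne_zero.mpr hne), one_smul] at this
        have h3 : v ∈ W i := by
          have := Submodule.sub_mem _ hm ((W i).smul_mem m h2)
          rwa [add_sub_cancel_right] at this
        exact hv i hi h3
      · push Not at h
        exact ⟨0, fun l hl _ hli => absurd hli (h l hl)⟩
    choose m hm using hbad
    let S : Finset K := insert 0 ((t.erase i0).image m)
    have hS : (S.card : Cardinal) < Cardinal.mk K := by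
      refine lt_of_lt_of_le ?_ hcard
      have h1 : S.card ≤ t.card := by
        calc S.card ≤ ((t.erase i0).image m).card + 1 := Finset.card_insert_le _ _
          _ ≤ (t.erase i0).card + 1 := Nat.add_le_add_right Finset.card_image_le 1
          _ = t.card := Finset.card_erase_add_one hi0
      exact_mod_cast Nat.lt_succ_of_le h1
    obtain ⟨l, hl⟩ := exists_not_mem_finset S hS
    have hl0 : l ≠ 0 := fun h => hl (h ▸ Finset.mem_insert_self _ _)
    refine ⟨v + l • c, fun i hi => ?_⟩
    rcases Finset.mem_insert.mp hi with rfl | hi
    · intro hmem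
      have h1 : l • c ∈ W i := by
        have := Submodule.sub_mem _ hmem hvj
        rwa [add_sub_cancel_left] at this
      have h2 : c ∈ W i := by
        have := (W i).smul_mem l⁻¹ h1
        rwa [smul_smul, inv_mul_cancel₀ hl0, one_smul] at this
      exact hc h2
    · intro hmem
      by_cases hii : i = i0
      · subst hii
        have h1 : v ∈ W i := by
          have := Submodule.sub_mem _ hmem ((W i).smul_mem l hci0)
          rwa [add_sub_cancel_right] at this
        exact hv i hi h1
      · have h1 := hm i l hl0 hi hmem
        exact hl (Finset.mem_insert_of_mem (Finset.mem_image.mpr ⟨i, Finset.mem_erase.mpr ⟨hii, hi⟩, h1.symm⟩))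

end K754.Avoid
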