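import Mathlib.RingTheory.LocalRing.ResidueField.Ideal
import Groth.Agent.ZeroCyc.K754.Avoid

/-!
# Avoidance of `p`-prime submodules when the residue field of `p` is large
-/

set_option autoImplicit false

universe u v w

namespace K754.Avoid

/-- every element of the residue field of `p` is a fraction. -/
theorem exists_frac {R : Type u} [CommRing R] (p : Ideal R) [p.IsPrime] (l : p.ResidueField) :
    ∃ r s : R, s ∉ p ∧ l * algebraMap R p.ResidueField s = algebraMap R p.ResidueField r := by
  obtain ⟨a, b, hb, rfl⟩ := IsFractionRing.div_surjective (A := R ⧸ p) l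
  obtain ⟨r, rfl⟩ := Ideal.Quotient.mk_surjective a
  obtain ⟨s, rfl⟩ := Ideal.Quotient.mk_surjective b
  have hs : s ∉ p := fun h => nonZeroDivisors.ne_zero hb (Ideal.Quotient.eq_zero_iff_mem.mpr h)
  refine ⟨r, s, hs, ?_⟩
  have h1 : algebraMap R p.ResidueField s ≠ 0 := by
    rwa [Ne, Ideal.algebraMap_residueField_eq_zero]
  have h2 : ∀ x : R, algebraMap (R ⧸ p) p.ResidueField (Ideal.Quotient.mk p x) = algebraMap R p.ResidueField x :=
    fun x => rfl
  rw [h2, h2, div_mul_cancel₀ _ h1]

/-- Let `p` be a prime of `R` and `N i`, `i ∈ t`, proper submodules of `M` that are `p`-prime.  If the residue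
field of `p` has at least as many elements as `t`, then `M` is not the union of the `N i`. -/
theorem exists_not_mem_module {R : Type u} {M : Type v} [CommRing R] (p : Ideal R) [p.IsPrime]
    [AddCommGroup M] [Module R M] {ι : Type w} (t : Finset ι) (N : ι → Submodule R M) (hN : ∀ i ∈ t, N i ≠ ⊤)
    (hs : ∀ i ∈ t, ∀ s ∉ p, ∀ m, s • m ∈ N i → m ∈ N i)
    (hcard : (t.card : Cardinal) ≤ Cardinal.mk p.ResidueField) : ∃ v : M, ∀ i ∈ t, v ∉ N i := by
  classical
  induction t using Finset.induction_on with
  | empty => exact ⟨0, by simp⟩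
  | insert j t hj ih =>
    rw [Finset.card_insert_of_notMem hj] at hcard
    obtain ⟨v, hv⟩ := ih (fun i hi => hN i (Finset.mem_insert_of_mem hi))
      (fun i hi => hs i (Finset.mem_insert_of_mem hi))
      (le_trans (by exact_mod_cast Nat.le_succ _) hcard)
    by_cases hvj : v ∉ N j
    · refine ⟨v, fun i hi => ?_⟩
      rcases Finset.mem_insert.mp hi with rfl | hi
      · exact hvj
      · exact hv i hi
    push Not at hvj
    obtain ⟨c, hc⟩ : ∃ c, c ∉ N j := by
      by_contra hcon
      push Not at hcon
      exact hN j (Finset.mem_insert_self _ _) (eq_top_iff.mpr fun x _ => hcon x)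
    by_cases hci : ∀ i ∈ t, c ∉ N i
    · refine ⟨c, fun i hi => ?_⟩
      rcases Finset.mem_insert.mp hi with rfl | hi
      · exact hc
      · exact hci i hi
    push Not at hci
    obtain ⟨i0, hi0, hci0⟩ := hci
    choose r s hsp hrs using exists_frac p
    have hr0 : ∀ l : p.ResidueField, l ≠ 0 → r l ∉ p := by
      intro l hl hmem
      have h1 := hrs l
      rw [(Ideal.algebraMap_residueField_eq_zero).mpr hmem, mul_eq_zero] at h1
      rcases h1 with h1 | h1
      · exact hl h1
      · exact hsp l (Ideal.algebraMap_residueField_eq_zero.mp h1)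
    have hcross : ∀ l m : p.ResidueField, l ≠ m → s m * r l - s l * r m ∉ p := by
      intro l m hlm hmem
      apply hlm
      have h1 := (Ideal.algebraMap_residueField_eq_zero).mpr hmem
      rw [map_sub, map_mul, map_mul, ← hrs l, ← hrs m, sub_eq_zero] at h1
      have h2 : algebraMap R p.ResidueField (s l) ≠ 0 := fun h => hsp l (Ideal.algebraMap_residueField_eq_zero.mp h)
      have h3 : algebraMap R p.ResidueField (s m) ≠ 0 := fun h => hsp m (Ideal.algebraMap_residueField_eq_zero.mp h)
      have h4 : (algebraMap R p.ResidueField (s m) * algebraMap R p.ResidueField (s l)) * l =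
          (algebraMap R p.ResidueField (s m) * algebraMap R p.ResidueField (s l)) * m := by
        linear_combination h1
      exact mul_left_cancel₀ (mul_ne_zero h3 h2) h4
    -- the bad scalar for each index
    have hbad : ∀ i : ι, ∃ m : p.ResidueField, ∀ l : p.ResidueField, l ≠ 0 → i ∈ t → s l • v + r l • c ∈ N i → l = m := by
      intro i
      by_cases h : ∃ m : p.ResidueField, m ≠ 0 ∧ s m • v + r m • c ∈ N i
      · obtain ⟨m, hm0, hm⟩ := h
        refine ⟨m, fun l hl hi hli => ?_⟩
        by_contra hne
        have hsi := hs i (Finset.mem_insert_of_mem hi)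
        have h1 : (s m * r l - s l * r m) • c ∈ N i := by
          have := Submodule.sub_mem _ ((N i).smul_mem (s m) hli) ((N i).smul_mem (s l) hm)
          convert this using 1
          simp only [smul_add, smul_smul, sub_smul]
          rw [mul_comm (s l) (s m)]
          abel
        have h2 : c ∈ N i := hsi _ (hcross l m hne) _ h1
        have h3 : s m • v ∈ N i := by
          have := Submodule.sub_mem _ hm ((N i).smul_mem (r m) h2)
          rwa [add_sub_cancel_right] at this
        exact hv i hi (hsi _ (hsp m) _ h3)
      · push Not at h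
        exact ⟨0, fun l hl _ hli => absurd hli (h l hl)⟩
    choose m hm using hbad
    let S : Finset p.ResidueField := insert 0 ((t.erase i0).image m)
    have hS : (S.card : Cardinal) < Cardinal.mk p.ResidueField := by
      refine lt_of_lt_of_le ?_ hcard
      have h1 : S.card ≤ t.card := by
        calc S.card ≤ ((t.erase i0).image m).card + 1 := Finset.card_insert_le _ _
          _ ≤ (t.erase i0).card + 1 := Nat.add_le_add_right Finset.card_image_le 1
          _ = t.card := Finset.card_erase_add_one hi0
      exact_mod_cast Nat.lt_succ_of_le h1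
    obtain ⟨l, hl⟩ := exists_not_mem_finset S hS
    have hl0 : l ≠ 0 := fun h => hl (h ▸ Finset.mem_insert_self _ _)
    refine ⟨s l • v + r l • c, fun i hi => ?_⟩
    rcases Finset.mem_insert.mp hi with rfl | hi
    · intro hmem
      have h1 : r l • c ∈ N i := by
        have := Submodule.sub_mem _ hmem ((N i).smul_mem (s l) hvj)
        rwa [add_sub_cancel_left] at this
      exact hc (hs i (Finset.mem_insert_self _ _) _ (hr0 l hl0) _ h1)
    · intro hmem
      by_cases hii : i = i0
      · subst hii
        have h1 : s l • v ∈ N i := by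
          have := Submodule.sub_mem _ hmem ((N i).smul_mem (r l) hci0)
          rwa [add_sub_cancel_right] at this
        exact hv i hi (hs i (Finset.mem_insert_of_mem hi) _ (hsp l) _ h1)
      · have h1 := hm i l hl0 hi hmem
        exact hl (Finset.mem_insert_of_mem (Finset.mem_image.mpr ⟨i, Finset.mem_erase.mpr ⟨hii, hi⟩, h1.symm⟩))

end K754.Avoid
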