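import Mathlib.AlgebraicGeometry.ProjectiveSpectrum.Basic
import Groth.Agent.ZeroCyc.K754.GrGen

/-!
# Points of `Proj` of a graded algebra with homogeneous generators
-/

set_option autoImplicit false

universe u

open AlgebraicGeometry

namespace K754.ProjPt

variable {R A : Type u} [CommRing R] [CommRing A] [Algebra R A] (𝒜 : ℕ → Submodule R A) [GradedAlgebra 𝒜]

/-- If `T` is a set of homogeneous generators of the graded algebra, then every point of `Proj` avoids some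
generator of positive degree. -/
theorem exists_not_mem (T : Set A) (hT : ∀ t ∈ T, ∃ n, t ∈ 𝒜 n) (hgen : Algebra.adjoin R T = ⊤)
    (x : ProjectiveSpectrum 𝒜) : ∃ t ∈ T, ∃ n, 0 < n ∧ t ∈ 𝒜 n ∧ t ∉ x.asHomogeneousIdeal := by
  let T' : Set A := {t | t ∈ T ∧ ∃ n, 0 < n ∧ t ∈ 𝒜 n}
  have h1 : Algebra.adjoin (𝒜 0) (Set.range (fun t : T' => (t : A))) = ⊤ := by
    rw [eq_top_iff]
    intro a _
    have ha : a ∈ Algebra.adjoin R T := by rw [hgen]; trivial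
    induction ha using Algebra.adjoin_induction with
    | mem t ht =>
      obtain ⟨n, hn⟩ := hT t ht
      rcases Nat.eq_zero_or_pos n with rfl | hpos
      · exact Subalgebra.algebraMap_mem _ (⟨t, hn⟩ : 𝒜 0)
      · exact Algebra.subset_adjoin ⟨⟨t, ht, n, hpos, hn⟩, rfl⟩
    | algebraMap r =>
      have h0 : algebraMap R A r ∈ 𝒜 0 := SetLike.algebraMap_mem_graded 𝒜 r
      exact Subalgebra.algebraMap_mem _ (⟨_, h0⟩ : 𝒜 0)
    | add y z _ _ hy hz => exact add_mem (hy trivial) (hz trivial)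
    | mul y z _ _ hy hz => exact mul_mem (hy trivial) (hz trivial)
  have h2 := Proj.iSup_basicOpen_eq_top' 𝒜 (fun t : T' => (t : A))
    (fun t => ⟨t.2.2.choose, t.2.2.choose_spec.2⟩) h1
  have h3 : (x : Proj 𝒜) ∈ (⨆ t : T', Proj.basicOpen 𝒜 (t : A)) := by rw [h2]; trivial
  obtain ⟨t, ht⟩ := TopologicalSpace.Opens.mem_iSup.mp h3
  obtain ⟨n, hn, htn⟩ := t.2.2
  exact ⟨t.1, t.2.1, n, hn, htn, ht⟩

variable {s : ℕ} {f : Fin s → A} {deg : Fin s → ℕ}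

/-- With generators `f i` of positive degrees `deg i`, every point of `Proj` avoids some `f i`. -/
theorem exists_gen_not_mem (hf : ∀ i, f i ∈ 𝒜 (deg i))
    (hgen : Algebra.adjoin R (Set.range f) = ⊤) (x : ProjectiveSpectrum 𝒜) :
    ∃ i, f i ∉ x.asHomogeneousIdeal := by
  obtain ⟨t, ⟨i, rfl⟩, _, _, _, h⟩ := exists_not_mem 𝒜 (Set.range f) (by rintro _ ⟨i, rfl⟩; exact ⟨_, hf i⟩) hgen x
  exact ⟨i, h⟩

theorem pow_not_mem {x : ProjectiveSpectrum 𝒜} {g : A} (hg : g ∉ x.asHomogeneousIdeal) (n : ℕ) :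
    g ^ n ∉ x.asHomogeneousIdeal :=
  fun h => hg (x.isPrime.mem_of_pow_mem n h)

/-- Every point of `Proj` avoids some power `f i ^ c` of degree `a * l`, `l` the lcm of the degrees. -/
theorem exists_pow_gen (hf : ∀ i, f i ∈ 𝒜 (deg i))
    (hgen : Algebra.adjoin R (Set.range f) = ⊤) (a : ℕ) (x : ProjectiveSpectrum 𝒜) :
    ∃ (i : Fin s) (c : ℕ), deg i * c = a * Finset.univ.lcm deg ∧ f i ^ c ∈ 𝒜 (a * Finset.univ.lcm deg) ∧
      f i ^ c ∉ x.asHomogeneousIdeal := by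
  obtain ⟨i, hi⟩ := exists_gen_not_mem 𝒜 hf hgen x
  obtain ⟨c, hc⟩ : deg i ∣ a * Finset.univ.lcm deg := (K754.GrGen.dvd_lcm (deg := deg) i).mul_left a
  refine ⟨i, c, hc.symm, ?_, pow_not_mem 𝒜 hi c⟩
  have h1 := SetLike.pow_mem_graded (A := 𝒜) c (hf i)
  rwa [smul_eq_mul, mul_comm c, ← hc] at h1

theorem iSup_basicOpen_eq_top (hf : ∀ i, f i ∈ 𝒜 (deg i))
    (hgen : Algebra.adjoin R (Set.range f) = ⊤) (a : ℕ) :
    (⨆ g : 𝒜 (a * Finset.univ.lcm deg), Proj.basicOpen 𝒜 (g : A)) = ⊤ := by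
  rw [eq_top_iff]
  intro x _
  obtain ⟨i, c, _, h1, h2⟩ := exists_pow_gen 𝒜 hf hgen a x
  exact TopologicalSpace.Opens.mem_iSup.mpr ⟨⟨f i ^ c, h1⟩, h2⟩

end K754.ProjPt
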