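import Groth.Agent.ZeroCyc.K754.TwGen

/-!
# `CoveredBy` for graded algebras with given generators
-/

set_option autoImplicit false

universe u

open CategoryTheory CategoryTheory.Limits AlgebraicGeometry TopologicalSpace Opposite

namespace K754.TwCov

open Groth.Agent Groth.Agent.Ega3B.ProjAmple

variable {R A : Type u} [CommRing R] [CommRing A] [Algebra R A] {𝒜 : ℕ → Submodule R A} [GradedAlgebra 𝒜]
  {s : ℕ} {f : Fin s → A} {deg : Fin s → ℕ}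

theorem coveredBy_mul_lcm (hf : ∀ i, f i ∈ 𝒜 (deg i)) (hgen : Algebra.adjoin R (Set.range f) = ⊤) (a : ℕ) :
    CoveredBy 𝒜 (a * Finset.univ.lcm deg) := fun x => by
  obtain ⟨i, c, _, h1, h2⟩ := K754.ProjPt.exists_pow_gen 𝒜 hf hgen a x
  exact ⟨⟨f i ^ c, h1⟩, h2⟩

theorem compactSpace (hdeg : ∀ i, 0 < deg i) (hf : ∀ i, f i ∈ 𝒜 (deg i))
    (hgen : Algebra.adjoin R (Set.range f) = ⊤) : CompactSpace (Proj 𝒜) := by
  have h1 : (⋃ i : Fin s, (Proj.basicOpen 𝒜 (f i) : Set (Proj 𝒜))) = Set.univ := by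
    rw [Set.eq_univ_iff_forall]
    intro x
    obtain ⟨i, hi⟩ := K754.ProjPt.exists_gen_not_mem 𝒜 hf hgen x
    exact Set.mem_iUnion.mpr ⟨i, hi⟩
  rw [← isCompact_univ_iff, ← h1]
  exact isCompact_iUnion fun i => (Proj.isAffineOpen_basicOpen 𝒜 (f i) (hf i) (hdeg i)).isCompact

theorem coveredBy_one_of_iSup (h : (⨆ g : 𝒜 1, Proj.basicOpen 𝒜 (g : A)) = ⊤) : CoveredBy 𝒜 1 := fun x => by
  have hx : x ∈ (⨆ g : 𝒜 1, Proj.basicOpen 𝒜 (g : A)) := by rw [h]; trivial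
  obtain ⟨g, hg⟩ := Opens.mem_iSup.mp hx
  exact ⟨g, hg⟩

theorem coveredBy_mul {e : ℕ} (h : CoveredBy 𝒜 e) (n : ℕ) : CoveredBy 𝒜 (n * e) := fun x => by
  obtain ⟨g, hg⟩ := h x
  exact ⟨powE g n, powE_notMem hg n⟩

theorem coveredBy_of_one (h : CoveredBy 𝒜 1) (n : ℕ) : CoveredBy 𝒜 n := by
  have := coveredBy_mul h n
  rwa [mul_one] at this

end K754.TwCov
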