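import Mathlib.RingTheory.PolynomialLaw.Basic

/-!
# Polynomial laws are determined by, and can be constructed from, their values over the polynomial rings
-/

set_option autoImplicit false

universe u v w x

open scoped TensorProduct
open MvPolynomial LinearMap

namespace K754.PolLift

variable {A : Type u} [CommRing A] {M : Type v} [AddCommGroup M] [Module A M] {N : Type w} [AddCommGroup N]
  [Module A N]

/-- A compatible family of maps over the polynomial rings in finitely many variables. -/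
def IsFam (T : ∀ n : ℕ, MvPolynomial (Fin n) A ⊗[A] M → MvPolynomial (Fin n) A ⊗[A] N) : Prop :=
  ∀ (n m : ℕ) (φ : MvPolynomial (Fin n) A →ₐ[A] MvPolynomial (Fin m) A),
    φ.toLinearMap.rTensor N ∘ T n = T m ∘ φ.toLinearMap.rTensor M

theorem IsFam.apply {T : ∀ n : ℕ, MvPolynomial (Fin n) A ⊗[A] M → MvPolynomial (Fin n) A ⊗[A] N} (hT : IsFam T)
    {n m : ℕ} (φ : MvPolynomial (Fin n) A →ₐ[A] MvPolynomial (Fin m) A) (z : MvPolynomial (Fin n) A ⊗[A] M) :
    φ.toLinearMap.rTensor N (T n z) = T m (φ.toLinearMap.rTensor M z) :=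
  congrFun (hT n m φ) z

theorem rTensor_comp_apply' {P : Type*} [AddCommGroup P] [Module A P] {S₁ S₂ S₃ : Type*} [CommSemiring S₁] [Algebra A S₁] [CommSemiring S₂]
    [Algebra A S₂] [CommSemiring S₃] [Algebra A S₃] (f : S₁ →ₐ[A] S₂) (g : S₂ →ₐ[A] S₃) (z : S₁ ⊗[A] P) :
    (g.comp f).toLinearMap.rTensor P z = g.toLinearMap.rTensor P (f.toLinearMap.rTensor P z) := by
  rw [AlgHom.comp_toLinearMap, LinearMap.rTensor_comp, LinearMap.comp_apply]

/-- evaluation of the last variable at `b`. -/
noncomputable def ev {k : ℕ} (b : MvPolynomial (Fin k) A) :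
    MvPolynomial (Fin (k + 1)) A →ₐ[A] MvPolynomial (Fin k) A :=
  aeval (Fin.snoc (α := fun _ => MvPolynomial (Fin k) A) (fun i => X i) b)

theorem ev_comp_rename {k : ℕ} (b : MvPolynomial (Fin k) A) :
    (ev b).comp (rename Fin.castSucc) = AlgHom.id A _ := by
  ext i
  simp [ev]

theorem ev_last {k : ℕ} (b : MvPolynomial (Fin k) A) : ev b (X (Fin.last k)) = b := by
  simp [ev]

variable {T : ∀ n : ℕ, MvPolynomial (Fin n) A ⊗[A] M → MvPolynomial (Fin n) A ⊗[A] N}

section ring

variable {S : Type x} [CommRing S] [Algebra A S]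

theorem rTensor_add_tmul (hT : IsFam T) {k : ℕ} (θ : MvPolynomial (Fin k) A →ₐ[A] S) (a : MvPolynomial (Fin k) A)
    (ha : θ a = 0) (m : M) (q : MvPolynomial (Fin k) A ⊗[A] M) :
    θ.toLinearMap.rTensor N (T k (q + a ⊗ₜ m)) = θ.toLinearMap.rTensor N (T k q) := by
  let w : MvPolynomial (Fin (k + 1)) A ⊗[A] M :=
    (rename (Fin.castSucc : Fin k → Fin (k + 1)) : MvPolynomial (Fin k) A →ₐ[A] _).toLinearMap.rTensor M q +
      X (Fin.last k) ⊗ₜ m
  have hw : ∀ b : MvPolynomial (Fin k) A, (ev b).toLinearMap.rTensor M w = q + b ⊗ₜ m := by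
    intro b
    simp only [w, map_add, LinearMap.rTensor_tmul, AlgHom.toLinearMap_apply, ev_last]
    rw [← rTensor_comp_apply', ev_comp_rename, AlgHom.toLinearMap_id, LinearMap.rTensor_id, LinearMap.id_apply]
  have hθ : θ.comp (ev a) = θ.comp (ev 0) := by
    ext i
    refine Fin.lastCases ?_ (fun j => ?_) i
    · rw [AlgHom.comp_apply, AlgHom.comp_apply, ev_last, ev_last, ha, map_zero]
    · simp [ev]
  have h0 : q = q + (0 : MvPolynomial (Fin k) A) ⊗ₜ m := by rw [TensorProduct.zero_tmul, add_zero]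
  conv_rhs => rw [h0]
  rw [← hw a, ← hw 0, ← hT.apply, ← hT.apply, ← rTensor_comp_apply', ← rTensor_comp_apply', hθ]

theorem rTensor_add_ker (hT : IsFam T) {k : ℕ} (θ : MvPolynomial (Fin k) A →ₐ[A] S)
    (z : (LinearMap.ker θ.toLinearMap) ⊗[A] M) (q : MvPolynomial (Fin k) A ⊗[A] M) :
    θ.toLinearMap.rTensor N (T k (q + (LinearMap.ker θ.toLinearMap).subtype.rTensor M z)) =
      θ.toLinearMap.rTensor N (T k q) := by
  induction z using TensorProduct.induction_on generalizing q with
  | zero => rw [map_zero, add_zero]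
  | tmul a m => exact rTensor_add_tmul hT θ a.1 a.2 m q
  | add y z hy hz => rw [map_add, ← add_assoc, hz, hy]

/-- For a surjective `θ`, the value `θ_* (T z)` depends only on `θ_* z`. -/
theorem rTensor_eq_of_surjective (hT : IsFam T) {k : ℕ} (θ : MvPolynomial (Fin k) A →ₐ[A] S)
    (hθ : Function.Surjective θ) (p q : MvPolynomial (Fin k) A ⊗[A] M)
    (h : θ.toLinearMap.rTensor M p = θ.toLinearMap.rTensor M q) :
    θ.toLinearMap.rTensor N (T k p) = θ.toLinearMap.rTensor N (T k q) := by
  have hex := rTensor_exact M (LinearMap.exact_subtype_ker_map θ.toLinearMap) hθ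
  obtain ⟨z, hz⟩ := (hex (p - q)).mp (by rw [map_sub, h, sub_self])
  have h1 := rTensor_add_ker hT θ z q
  rwa [hz, add_sub_cancel] at h1

end ring

section semiring

variable {S : Type x} [CommSemiring S] [Algebra A S]

theorem rTensor_eq_of_surjective' (hT : IsFam T) {k : ℕ} (θ : MvPolynomial (Fin k) A →ₐ[A] S)
    (hθ : Function.Surjective θ) (p q : MvPolynomial (Fin k) A ⊗[A] M)
    (h : θ.toLinearMap.rTensor M p = θ.toLinearMap.rTensor M q) :
    θ.toLinearMap.rTensor N (T k p) = θ.toLinearMap.rTensor N (T k q) := by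
  let _ : CommRing S :=
    { __ := Algebra.semiringToRing A
      mul_comm := CommMonoid.mul_comm }
  exact rTensor_eq_of_surjective (S := S) hT θ hθ p q h

/-- Any algebra map from a polynomial ring into the range of `θ` lifts along `θ`. -/
theorem exists_comp_eq {k n : ℕ} (θ : MvPolynomial (Fin k) A →ₐ[A] S) (φ : MvPolynomial (Fin n) A →ₐ[A] S)
    (h : φ.range ≤ θ.range) : ∃ φ' : MvPolynomial (Fin n) A →ₐ[A] MvPolynomial (Fin k) A, θ.comp φ' = φ := by
  have h1 : ∀ i, ∃ b, θ b = φ (X i) := fun i => h ⟨X i, rfl⟩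
  choose b hb using h1
  refine ⟨aeval b, ?_⟩
  ext i
  simp [hb]

theorem rTensor_eq (hT : IsFam T) {n m : ℕ} (φ : MvPolynomial (Fin n) A →ₐ[A] S) (ψ : MvPolynomial (Fin m) A →ₐ[A] S)
    (p : MvPolynomial (Fin n) A ⊗[A] M) (q : MvPolynomial (Fin m) A ⊗[A] M)
    (h : φ.toLinearMap.rTensor M p = ψ.toLinearMap.rTensor M q) :
    φ.toLinearMap.rTensor N (T n p) = ψ.toLinearMap.rTensor N (T m q) := by
  -- a finitely generated subalgebra over which the two elements agree
  have fg1 : Subalgebra.FG (R := A) φ.range := by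
    rw [← Algebra.map_top]
    exact Subalgebra.FG.map _ Algebra.FiniteType.out
  have fg2 : Subalgebra.FG (R := A) ψ.range := by
    rw [← Algebra.map_top]
    exact Subalgebra.FG.map _ Algebra.FiniteType.out
  have huu : (Subalgebra.val _).toLinearMap.rTensor M (φ.rangeRestrict.toLinearMap.rTensor M p) =
      (Subalgebra.val _).toLinearMap.rTensor M (ψ.rangeRestrict.toLinearMap.rTensor M q) := by
    rw [← rTensor_comp_apply', ← rTensor_comp_apply', AlgHom.val_comp_rangeRestrict, AlgHom.val_comp_rangeRestrict, h]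
  obtain ⟨B, hAB, hA'B, hBfg, heq⟩ :=
    TensorProduct.Algebra.eq_of_fg_of_subtype_eq' (R := A) fg1 fg2 huu
  obtain ⟨t, ht⟩ := PolynomialLaw.exists_range_φ_eq_of_fg hBfg
  let θ := PolynomialLaw.φ A t
  obtain ⟨φ', hφ'⟩ := exists_comp_eq θ φ (hAB.trans (le_of_eq ht.symm))
  obtain ⟨ψ', hψ'⟩ := exists_comp_eq θ ψ (hA'B.trans (le_of_eq ht.symm))
  let θ' : MvPolynomial (Fin t.card) A →ₐ[A] B := (Subalgebra.inclusion (le_of_eq ht)).comp θ.rangeRestrict
  have hθ' : Function.Surjective θ' := by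
    intro b
    obtain ⟨c, hc⟩ := θ.rangeRestrict_surjective ⟨b.1, (le_of_eq ht.symm) b.2⟩
    refine ⟨c, Subtype.ext ?_⟩
    have h1 := congrArg (fun y : θ.range => (y : S)) hc
    exact h1
  have hval : B.val.comp θ' = θ := by ext i; rfl
  have e1 : θ'.comp φ' = (Subalgebra.inclusion hAB).comp φ.rangeRestrict := by
    apply AlgHom.ext
    intro z
    apply Subtype.ext
    exact congrArg (fun f => f z) hφ'
  have e2 : θ'.comp ψ' = (Subalgebra.inclusion hA'B).comp ψ.rangeRestrict := by
    apply AlgHom.ext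
    intro z
    apply Subtype.ext
    exact congrArg (fun f => f z) hψ'
  have key : θ'.toLinearMap.rTensor M (φ'.toLinearMap.rTensor M p) =
      θ'.toLinearMap.rTensor M (ψ'.toLinearMap.rTensor M q) := by
    rw [← rTensor_comp_apply', ← rTensor_comp_apply', e1, e2, rTensor_comp_apply', rTensor_comp_apply']
    exact heq
  have h2 := rTensor_eq_of_surjective' hT θ' hθ' _ _ key
  have h3 := congrArg (B.val.toLinearMap.rTensor N) h2
  rw [← rTensor_comp_apply', ← rTensor_comp_apply', hval, ← hT.apply, ← hT.apply, ← rTensor_comp_apply',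
    ← rTensor_comp_apply', hφ', hψ'] at h3
  exact h3

end semiring

/-- The polynomial law attached to a compatible family over the polynomial rings. -/
noncomputable def toLaw (T : ∀ n : ℕ, MvPolynomial (Fin n) A ⊗[A] M → MvPolynomial (Fin n) A ⊗[A] N)
    (hT : IsFam T) : M →ₚₗ[A] N where
  toFun' S _ _ := fun z =>
    (PolynomialLaw.exists_lift z).choose_spec.choose.toLinearMap.rTensor N
      (T _ (PolynomialLaw.exists_lift z).choose_spec.choose_spec.choose)
  isCompat' {S} _ _ {S'} _ _ φ := by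
    funext z
    simp only [Function.comp_apply]
    rw [← rTensor_comp_apply']
    refine rTensor_eq hT _ _ _ _ ?_
    rw [rTensor_comp_apply', (PolynomialLaw.exists_lift z).choose_spec.choose_spec.choose_spec,
      (PolynomialLaw.exists_lift (φ.toLinearMap.rTensor M z)).choose_spec.choose_spec.choose_spec]

theorem toLaw_toFun' (hT : IsFam T) {S : Type u} [CommSemiring S] [Algebra A S] {n : ℕ}
    (φ : MvPolynomial (Fin n) A →ₐ[A] S) (p : MvPolynomial (Fin n) A ⊗[A] M) :
    (toLaw T hT).toFun' S (φ.toLinearMap.rTensor M p) = φ.toLinearMap.rTensor N (T n p) := by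
  refine rTensor_eq hT _ _ _ _ ?_
  exact (PolynomialLaw.exists_lift (φ.toLinearMap.rTensor M p)).choose_spec.choose_spec.choose_spec

theorem toLaw_mvPolynomial (hT : IsFam T) (n : ℕ) : (toLaw T hT).toFun' (MvPolynomial (Fin n) A) = T n := by
  funext p
  have h := toLaw_toFun' hT (AlgHom.id A (MvPolynomial (Fin n) A)) p
  rwa [AlgHom.toLinearMap_id, LinearMap.rTensor_id, LinearMap.rTensor_id, LinearMap.id_apply, LinearMap.id_apply] at h

/-- Two polynomial laws that agree over the polynomial rings in finitely many variables are equal. -/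
theorem ext_mvPolynomial {F G : M →ₚₗ[A] N}
    (h : ∀ n : ℕ, F.toFun' (MvPolynomial (Fin n) A) = G.toFun' (MvPolynomial (Fin n) A)) : F = G := by
  ext S _ _ z
  obtain ⟨n, φ, p, rfl⟩ := PolynomialLaw.exists_lift z
  rw [← PolynomialLaw.isCompat_apply', ← PolynomialLaw.isCompat_apply', h]

/-- two elements of a tensor product lift simultaneously to a polynomial ring -/
theorem exists_lift₂ {S : Type x} [CommSemiring S] [Algebra A S] (y : S ⊗[A] M) (z : S ⊗[A] N) :
    ∃ (n : ℕ) (ψ : MvPolynomial (Fin n) A →ₐ[A] S) (p : MvPolynomial (Fin n) A ⊗[A] M)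
      (q : MvPolynomial (Fin n) A ⊗[A] N), ψ.toLinearMap.rTensor M p = y ∧ ψ.toLinearMap.rTensor N q = z := by
  obtain ⟨B, hB, ht⟩ := TensorProduct.Algebra.exists_of_fg y
  obtain ⟨B', hB', ht'⟩ := TensorProduct.Algebra.exists_of_fg z
  obtain ⟨gen, hgen⟩ := PolynomialLaw.exists_range_φ_eq_of_fg (Subalgebra.FG.sup hB hB')
  obtain ⟨p, hp⟩ := PolynomialLaw.exists_lift_of_mem_range_rTensor B (le_sup_left.trans (le_of_eq hgen.symm)) ht
  obtain ⟨q, hq⟩ := PolynomialLaw.exists_lift_of_mem_range_rTensor B' (le_sup_right.trans (le_of_eq hgen.symm)) ht'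
  exact ⟨_, _, p, q, hp, hq⟩

theorem rTensor_eq_map {S₁ S₂ : Type*} [CommSemiring S₁] [Algebra A S₁] [CommSemiring S₂] [Algebra A S₂]
    (φ : S₁ →ₐ[A] S₂) (D : Type*) [CommRing D] [Algebra A D] (z : S₁ ⊗[A] D) :
    φ.toLinearMap.rTensor D z = Algebra.TensorProduct.map φ (AlgHom.id A D) z := by
  induction z using TensorProduct.induction_on with
  | zero => simp
  | tmul a b => rfl
  | add a b ha hb => simp [ha, hb]

end K754.PolLift
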