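import Groth.Agent.Sga1.Transit
import Groth.Agent.Sga1.QuotBasic
import Groth.Agent.FlatA.UnivHomeo
import Mathlib.AlgebraicGeometry.Morphisms.UniversallyClosed
import Mathlib.AlgebraicGeometry.Morphisms.SchemeTheoreticallyDominant
import Mathlib.AlgebraicGeometry.PullbackCarrier

/-!
# Morphisms out of a quotient `X / G` that are universal homeomorphisms
-/

set_option autoImplicit false

universe u

open CategoryTheory CategoryTheory.Limits AlgebraicGeometry

namespace K754.QuotUH

open Groth.Agent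

/-- Two field valued points of the target of a surjective morphism lift, after an extension of the field. -/
theorem exists_lift₂ {X Y : Scheme.{u}} (r : X ⟶ Y) [Surjective r] {T : Scheme.{u}} [Nonempty T] (y₁ y₂ : T ⟶ Y) :
    ∃ (K : CommRingCat.{u}) (_ : IsField K) (c : Spec K ⟶ T) (x₁ x₂ : Spec K ⟶ X),
      x₁ ≫ r = c ≫ y₁ ∧ x₂ ≫ r = c ≫ y₂ := by
  let W := pullback (pullback.snd r y₁) (pullback.snd r y₂)
  let p : W ⟶ T := pullback.fst _ _ ≫ pullback.snd r y₁
  have hp : Surjective p := inferInstance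
  obtain ⟨t⟩ := (inferInstance : Nonempty T)
  obtain ⟨w, _⟩ := p.surjective t
  let ψ := W.fromSpecResidueField w
  refine ⟨W.residueField w, Field.toIsField _, ψ ≫ p, ψ ≫ pullback.fst _ _ ≫ pullback.fst r y₁,
    ψ ≫ pullback.snd _ _ ≫ pullback.fst r y₂, ?_, ?_⟩
  · simp only [p, Category.assoc]
    rw [pullback.condition]
  · simp only [p, Category.assoc]
    rw [pullback.condition, ← pullback.condition_assoc]

/-- A morphism out of a surjective image of `X` is universally injective as soon as two field valued points of `X` with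
the same image in the target have the same image in the source. -/
theorem universallyInjective_of_forall {X Y Z : Scheme.{u}} (r : X ⟶ Y) [Surjective r] (m : Y ⟶ Z)
    (h : ∀ (K : Type u) [Field K] (x₁ x₂ : Spec (CommRingCat.of K) ⟶ X), x₁ ≫ r ≫ m = x₂ ≫ r ≫ m → x₁ ≫ r = x₂ ≫ r) :
    UniversallyInjective m := by
  rw [UniversallyInjective.iff_diagonal, surjective_iff]
  intro z
  let φ := (pullback m m).fromSpecResidueField z
  obtain ⟨K, hK, c, x₁, x₂, h₁, h₂⟩ := exists_lift₂ r (φ ≫ pullback.fst m m) (φ ≫ pullback.snd m m)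
  let _ := hK.toField
  have h3 : x₁ ≫ r = x₂ ≫ r := by
    refine h K x₁ x₂ ?_
    rw [reassoc_of% h₁, reassoc_of% h₂, pullback.condition]
  have h4 : c ≫ φ = (c ≫ φ ≫ pullback.fst m m) ≫ pullback.diagonal m := by
    apply pullback.hom_ext
    · simp
    · simp only [Category.assoc, pullback.diagonal_snd, Category.comp_id]
      rw [← h₂, ← h3, h₁]
  have : Nonempty (Spec K) := by
    change Nonempty (PrimeSpectrum K)
    infer_instance
  obtain ⟨k⟩ := this
  refine ⟨(c ≫ φ ≫ pullback.fst m m) k, ?_⟩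
  rw [← Scheme.Hom.comp_apply, ← h4, Scheme.Hom.comp_apply, Scheme.fromSpecResidueField_apply]

variable {G : Type u} [Group G] [Finite G]

theorem universallyInjective_of_isQuot {X Y Z : Scheme.{u}} {ρ : G →* Aut X} {r : X ⟶ Y} (hr : SGA1.IsQuot ρ r)
    (m : Y ⟶ Z)
    (h : ∀ (K : Type u) [Field K] (x₁ x₂ : Spec (CommRingCat.of K) ⟶ X), x₁ ≫ r ≫ m = x₂ ≫ r ≫ m →
      ∃ g : G, x₁ = x₂ ≫ (ρ g).hom) :
    UniversallyInjective m := by
  have : Surjective r := ⟨Sga1.QuotBasic.surjective_of_isQuot hr⟩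
  refine universallyInjective_of_forall r m fun K _ x₁ x₂ hx => ?_
  obtain ⟨g, rfl⟩ := h K x₁ x₂ hx
  rw [Category.assoc, hr.inv]

/-- The comparison `(X ×_S S') / G ⟶ (X / G) ×_S S'` is a universal homeomorphism. -/
theorem isUnivHomeo_baseChange {X Y S S' Y' : Scheme.{u}}
    (ρ : G →* Aut X) (f : X ⟶ S)
    (q : X ⟶ Y) (h : Y ⟶ S) (hq : q ≫ h = f) (hquot : SGA1.IsQuot ρ q)
    (g : S' ⟶ S)
    (ρ' : G →* Aut (pullback f g))
    (hρ' : ∀ σ : G, (ρ' σ).hom ≫ pullback.fst f g = pullback.fst f g ≫ (ρ σ).hom ∧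
      (ρ' σ).hom ≫ pullback.snd f g = pullback.snd f g)
    (r : pullback f g ⟶ Y') (hr : SGA1.IsQuot ρ' r)
    (m : Y' ⟶ pullback h g)
    (hm : r ≫ m = pullback.map f g h g q (𝟙 S') (𝟙 S)
      ((Category.comp_id f).trans hq.symm) ((Category.comp_id g).trans (Category.id_comp g).symm)) :
    FlatMor.IsUnivHomeo m := by
  subst hq
  have hqi : IsIntegralHom q := Sga1.QuotBasic.isIntegralHom_of_isQuot hquot
  have hqs : Surjective q := ⟨Sga1.QuotBasic.surjective_of_isQuot hquot⟩
  have hrs : Surjective r := ⟨Sga1.QuotBasic.surjective_of_isQuot hr⟩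
  have e1 : (r ≫ m) ≫ pullback.fst h g = pullback.fst (q ≫ h) g ≫ q := by
    rw [hm]
    exact pullback.lift_fst _ _ _
  have e2 : (r ≫ m) ≫ pullback.snd h g = pullback.snd (q ≫ h) g := by
    rw [hm]
    exact (pullback.lift_snd _ _ _).trans (Category.comp_id _)
  -- the product map is a base change of `q`
  have hsq : IsPullback (r ≫ m) (pullback.fst (q ≫ h) g) (pullback.fst h g) q := by
    have h1 : IsPullback ((r ≫ m) ≫ pullback.snd h g) (pullback.fst (q ≫ h) g) g (q ≫ h) := by
      rw [e2]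
      exact (IsPullback.of_hasPullback (q ≫ h) g).flip
    exact IsPullback.of_right h1 e1 (IsPullback.of_hasPullback h g).flip
  have h1 : UniversallyClosed (r ≫ m) :=
    MorphismProperty.of_isPullback hsq.flip (inferInstanceAs (UniversallyClosed q))
  have h2 : Surjective (r ≫ m) :=
    MorphismProperty.of_isPullback hsq.flip hqs
  refine FlatA.UnivHomeo.isUnivHomeo_of_universallyClosed (UniversallyClosed.of_comp_surjective r m)
    ?_ (Surjective.of_comp r m)
  refine universallyInjective_of_isQuot hr m fun K _ x₁ x₂ hx => ?_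
  have e3 : (x₁ ≫ pullback.fst (q ≫ h) g) ≫ q = (x₂ ≫ pullback.fst (q ≫ h) g) ≫ q := by
    rw [Category.assoc, Category.assoc, ← e1]
    simpa only [Category.assoc] using congrArg (· ≫ pullback.fst h g) hx
  have e4 : x₁ ≫ pullback.snd (q ≫ h) g = x₂ ≫ pullback.snd (q ≫ h) g := by
    rw [← e2]
    simpa only [Category.assoc] using congrArg (· ≫ pullback.snd h g) hx
  obtain ⟨σ, hσ⟩ := Sga1.Transit.exists_comp_eq hquot _ _ e3
  refine ⟨σ, ?_⟩
  apply pullback.hom_ext
  · rw [Category.assoc, (hρ' σ).1, hσ, Category.assoc]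
  · rw [Category.assoc, (hρ' σ).2, e4]

/-- The morphism to the scheme theoretic image is scheme theoretically dominant. -/
theorem isSchemeTheoreticallyDominant_of_comp_subschemeι {Z Y : Scheme.{u}} (f : Z ⟶ Y) [QuasiCompact f]
    (t : Z ⟶ f.ker.subscheme) (ht : t ≫ f.ker.subschemeι = f) : IsSchemeTheoreticallyDominant t := by
  have h1 : t = f.toImage := by
    rw [← cancel_mono f.imageι, f.toImage_imageι]
    exact ht
  subst h1
  rw [isSchemeTheoreticallyDominant_iff]
  let U : Y.affineOpens → f.image.affineOpens := fun V => ⟨f.imageι ⁻¹ᵁ V.1, V.2.preimage f.imageι⟩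
  refine Scheme.IdealSheafData.ext_of_iSup_eq_top U ?_ fun V => ?_
  · rw [eq_top_iff]
    intro x _
    obtain ⟨_, ⟨V, hV, rfl⟩, hxV, -⟩ := Y.isBasis_affineOpens.exists_subset_of_mem_open
      (Set.mem_univ (f.imageι x)) isOpen_univ
    exact TopologicalSpace.Opens.mem_iSup.mpr ⟨⟨V, hV⟩, hxV⟩
  · rw [Scheme.Hom.ker_apply, Scheme.IdealSheafData.ideal_bot]
    exact (RingHom.injective_iff_ker_eq_bot _).mp (f.toImage_app_injective V)

/-- The comparison `Z / G ⟶ q(Z)`, for a stable closed subscheme `Z` of `X` with quotient `q : X ⟶ X / G`, is a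
schematically dominant universal homeomorphism. -/
theorem isUnivHomeo_closedSubscheme {X Y Z W : Scheme.{u}}
    (ρ : G →* Aut X) (q : X ⟶ Y) (hquot : SGA1.IsQuot ρ q)
    (i : Z ⟶ X) [IsClosedImmersion i] (ρZ : G →* Aut Z) (hρZ : ∀ σ : G, (ρZ σ).hom ≫ i = i ≫ (ρ σ).hom)
    (r : Z ⟶ W) (hr : SGA1.IsQuot ρZ r)
    (m : W ⟶ (i ≫ q).ker.subscheme) (hm : r ≫ m ≫ (i ≫ q).ker.subschemeι = i ≫ q) :
    FlatMor.IsUnivHomeo m ∧ IsSchemeTheoreticallyDominant m := by
  have hqi : IsIntegralHom q := Sga1.QuotBasic.isIntegralHom_of_isQuot hquot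
  have hrs : Surjective r := ⟨Sga1.QuotBasic.surjective_of_isQuot hr⟩
  have hm' : (r ≫ m) ≫ (i ≫ q).ker.subschemeι = i ≫ q := by rw [Category.assoc, hm]
  have h0 : IsIntegralHom (i ≫ q) := inferInstance
  have hdom : IsSchemeTheoreticallyDominant (r ≫ m) :=
    isSchemeTheoreticallyDominant_of_comp_subschemeι (i ≫ q) (r ≫ m) hm'
  have h1 : UniversallyClosed (r ≫ m) := by
    have : UniversallyClosed ((r ≫ m) ≫ (i ≫ q).ker.subschemeι) := by rw [hm']; infer_instance
    exact UniversallyClosed.of_comp_of_isSeparated (r ≫ m) (i ≫ q).ker.subschemeι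
  have hqc : QuasiCompact (r ≫ m) := by
    have : QuasiCompact ((r ≫ m) ≫ (i ≫ q).ker.subschemeι) := by rw [hm']; infer_instance
    exact QuasiCompact.of_comp (r ≫ m) (i ≫ q).ker.subschemeι
  have h2 : Surjective (r ≫ m) := by
    have : IsDominant (r ≫ m) := inferInstance
    refine ⟨fun y => ?_⟩
    have h3 := (r ≫ m).denseRange.closure_range
    rw [(r ≫ m).isClosedMap.isClosed_range.closure_eq] at h3
    have : y ∈ Set.range (r ≫ m) := by rw [h3]; trivial
    exact this
  refine ⟨FlatA.UnivHomeo.isUnivHomeo_of_universallyClosed (UniversallyClosed.of_comp_surjective r m)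
    ?_ (Surjective.of_comp r m), ?_⟩
  · refine universallyInjective_of_isQuot hr m fun K _ x₁ x₂ hx => ?_
    have e1 : (x₁ ≫ i) ≫ q = (x₂ ≫ i) ≫ q := by
      rw [Category.assoc, Category.assoc, ← hm]
      simpa only [Category.assoc] using congrArg (· ≫ (i ≫ q).ker.subschemeι) hx
    obtain ⟨σ, hσ⟩ := Sga1.Transit.exists_comp_eq hquot _ _ e1
    refine ⟨σ, ?_⟩
    rw [← cancel_mono i, hσ, Category.assoc, Category.assoc, hρZ]
  · rw [isSchemeTheoreticallyDominant_iff, eq_bot_iff, ← hdom.ker_eq_bot]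
    exact Scheme.Hom.le_ker_comp r m

end K754.QuotUH
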