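import Groth.Agent.ZeroCyc.K754.FieldLawMult
import Groth.Agent.ZeroCyc.K757.ProdLaw
import Mathlib.FieldTheory.PurelyInseparable.Exponent
import Groth.Prelude.Def_PolLaw2
import Mathlib.RingTheory.Flat.Basic

/-!
# Multiplicative laws `K → k` for a finite field extension: uniqueness, divisibility of the degree, existence
-/

set_option autoImplicit false
set_option linter.style.haveILetI false
universe u
open scoped TensorProduct
open Polynomial

namespace K754.FieldLawFin

open K757.Ev K754.FieldLaw K754.FieldLawMult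

section Unique

variable {k : Type u} [Field k] {K : Type u} [Field K] [Algebra k K] [FiniteDimensional k K]

theorem law_unique (Ω : Type u) [Field Ω] [Algebra k Ω] [IsAlgClosed Ω] {d : ℕ}
    (F G : PolLaw.MulLaw k K k d) : F.law = G.law := by
  classical
  haveI : Fintype (K →ₐ[k] Ω) := Fintype.ofFinite _
  haveI : Nonempty (K →ₐ[k] Ω) := ⟨IsAlgClosed.lift⟩
  obtain ⟨m, hm, hF⟩ := exists_formula (Ω := Ω) F
  obtain ⟨m', hm', hG⟩ := exists_formula (Ω := Ω) G
  have hmm : m = m' := Nat.eq_of_mul_eq_mul_left Fintype.card_pos (hm.trans hm'.symm)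
  subst hmm
  refine ext_mvPolynomial fun n x => ?_
  rw [K757.ProdLaw.toFun'_eq, K757.ProdLaw.toFun'_eq]
  congr 1
  let h : MvPolynomial (Fin n) k →ₐ[k] MvPolynomial (Fin n) Ω :=
    MvPolynomial.mapAlgHom (Algebra.ofId k Ω)
  have hinj : Function.Injective h :=
    MvPolynomial.map_injective _ (algebraMap k Ω).injective
  apply hinj
  rw [ev_map, ev_map, show h.comp (Algebra.ofId k _) = Algebra.ofId k (MvPolynomial (Fin n) Ω) from
      Subsingleton.elim _ _, hF, hG]

end Unique

section Dvd

variable {k : Type u} [Field k] {K : Type u} [Field K] [Algebra k K] [FiniteDimensional k K]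

/-- The degree of a multiplicative law is `n * m` with `x ^ m` separable for all `x`. -/
theorem exists_separable {d : ℕ} (F : PolLaw.MulLaw k K k d) :
    ∃ m : ℕ, Field.finSepDegree k K * m = d ∧ ∀ x : K, x ^ m ∈ separableClosure k K := by
  classical
  let Ω := AlgebraicClosure K
  haveI : Fintype (K →ₐ[k] Ω) := Fintype.ofFinite _
  obtain ⟨m, hm, hF⟩ := exists_formula (Ω := Ω) F
  refine ⟨m, ?_, fun x => ?_⟩
  · rw [← hm]
    congr 1
    exact Nat.card_eq_fintype_card
  obtain ⟨θ, hθs, hθ⟩ := exists_gen k K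
  let j₀ : K →ₐ[k] Ω := IsScalarTower.toAlgHom k K Ω
  let S := separableClosure k Ω
  have hsep : ∀ j : K →ₐ[k] Ω, j θ ∈ S := fun j =>
    mem_separableClosure_iff.mpr (IsSeparable.map j j.injective (mem_separableClosure_iff.mp hθs))
  let t : (K →ₐ[k] Ω) → S := fun j => ⟨j θ, hsep j⟩
  let φ : S →ₐ[k] Ω := S.val
  let u : S ⊗[k] K := ∏ j ∈ Finset.univ.erase j₀,
    ((t j₀ - t j)⁻¹ ⊗ₜ[k] (1 : K)) * ((1 : S) ⊗ₜ[k] θ - (t j) ⊗ₜ[k] (1 : K))
  have hu : ∀ i : K →ₐ[k] Ω, E i Ω (bc K φ u) = if i = j₀ then 1 else 0 := by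
    intro i
    have h1 : E i Ω (bc K φ u) = ∏ j ∈ Finset.univ.erase j₀, ((j₀ θ - j θ)⁻¹ * (i θ - j θ)) := by
      simp only [u, map_prod]
      refine Finset.prod_congr rfl fun j _ => ?_
      rw [map_mul, map_mul, map_sub, map_sub, Algebra.TensorProduct.map_tmul,
        Algebra.TensorProduct.map_tmul, Algebra.TensorProduct.map_tmul, E_tmul, E_tmul, E_tmul]
      simp [φ, t]
    rw [h1]
    split_ifs with hi
    · subst hi
      refine Finset.prod_eq_one fun j hj => ?_
      apply inv_mul_cancel₀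
      rw [sub_ne_zero]
      exact fun h => (Finset.ne_of_mem_erase hj) (hθ Ω _ _ h.symm)
    · refine Finset.prod_eq_zero (Finset.mem_erase.mpr ⟨hi, Finset.mem_univ i⟩) ?_
      rw [sub_self, mul_zero]
  let z : S ⊗[k] K := u * ((1 : S) ⊗ₜ[k] x) + (1 - u)
  have hz : ∀ i : K →ₐ[k] Ω, E i Ω (bc K φ z) = if i = j₀ then j₀ x else 1 := by
    intro i
    simp only [z]
    rw [map_add, map_add, map_mul, map_mul, map_sub, map_sub, hu, map_one, map_one,
      Algebra.TensorProduct.map_tmul, E_tmul]
    split_ifs with hi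
    · subst hi
      simp
    · simp
  have h2 : φ (ev F.law (Algebra.ofId k S) z) = j₀ x ^ m := by
    rw [ev_map, show φ.comp (Algebra.ofId k S) = Algebra.ofId k Ω from Subsingleton.elim _ _, hF]
    rw [Finset.prod_eq_single j₀]
    · rw [hz, if_pos rfl]
    · intro j _ hj
      rw [hz, if_neg hj, one_pow]
    · intro h
      exact absurd (Finset.mem_univ _) h
  have h3 : j₀ (x ^ m) ∈ S := by
    rw [map_pow, ← h2]
    exact (ev F.law (Algebra.ofId k S) z).2
  exact mem_separableClosure_iff.mpr (IsSeparable.of_algHom j₀ (mem_separableClosure_iff.mp h3))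

omit [FiniteDimensional k K] in
theorem pow_gcd_mem (L : IntermediateField k K) {a b : ℕ} (hab : 0 < Nat.gcd a b)
    (ha : ∀ x : K, x ^ a ∈ L) (hb : ∀ x : K, x ^ b ∈ L) (x : K) : x ^ Nat.gcd a b ∈ L := by
  rcases eq_or_ne x 0 with rfl | hx
  · rw [zero_pow hab.ne']
    exact L.zero_mem
  have h1 : x ^ Nat.gcd a b = (x ^ a) ^ (Nat.gcdA a b) * (x ^ b) ^ (Nat.gcdB a b) := by
    rw [← zpow_natCast x (Nat.gcd a b), Nat.gcd_eq_gcd_ab, zpow_add₀ hx, zpow_mul, zpow_mul,
      zpow_natCast, zpow_natCast]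
  rw [h1]
  exact L.mul_mem (zpow_mem (ha x) _) (zpow_mem (hb x) _)

omit [FiniteDimensional k K] in
theorem dvd_of_pow_mem (L : IntermediateField k K) {e m : ℕ} (he : 0 < e)
    (hexp : ∀ x : K, x ^ e ∈ L) (hmin : ∀ n : ℕ, 0 < n → (∀ x : K, x ^ n ∈ L) → e ≤ n)
    (hm : ∀ x : K, x ^ m ∈ L) : e ∣ m := by
  have hpos : 0 < Nat.gcd m e := Nat.gcd_pos_of_pos_right _ he
  have h1 := hmin _ hpos (pow_gcd_mem L hpos hm hexp)
  have h2 : Nat.gcd m e = e := le_antisymm (Nat.le_of_dvd he (Nat.gcd_dvd_right m e)) h1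
  exact h2 ▸ Nat.gcd_dvd_left m e

theorem exists_eq_expChar_pow {e : ℕ} (he : 0 < e)
    (hexp : ∀ x : K, x ^ e ∈ separableClosure k K)
    (hmin : ∀ n : ℕ, 0 < n → (∀ x : K, x ^ n ∈ separableClosure k K) → e ≤ n) (q : ℕ) [ExpChar k q] :
    ∃ r : ℕ, e = q ^ r := by
  haveI : ExpChar (separableClosure k K) q := expChar_of_injective_algebraMap (algebraMap k _).injective q
  let N := IsPurelyInseparable.exponent (separableClosure k K) K
  have hN : ∀ x : K, x ^ q ^ N ∈ separableClosure k K := by
    intro x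
    obtain ⟨y, hy⟩ := IsPurelyInseparable.exponent_def' (separableClosure k K) q x
    rw [← hy]
    exact y.2
  have hdvd := dvd_of_pow_mem (separableClosure k K) he hexp hmin hN
  rcases ‹ExpChar k q› with _ | hq
  · rw [one_pow, Nat.dvd_one] at hdvd
    exact ⟨0, by simpa using hdvd⟩
  · obtain ⟨r, -, hr⟩ := (Nat.dvd_prime_pow hq).mp hdvd
    exact ⟨r, hr⟩

end Dvd

section Exists

variable {k : Type u} [Field k] {K : Type u} [Field K] [Algebra k K] [FiniteDimensional k K]

variable (k K) in
/-- The inclusion `R ⊗ K_s → R ⊗ K`. -/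
noncomputable def inc (R : Type u) [CommRing R] [Algebra k R] :
    R ⊗[k] (separableClosure k K) →ₐ[R] R ⊗[k] K :=
  Algebra.TensorProduct.map (AlgHom.id R R) (separableClosure k K).val

omit [FiniteDimensional k K] in
theorem inc_injective (R : Type u) [CommRing R] [Algebra k R] : Function.Injective (inc k K R) := by
  have h1 : Function.Injective ((separableClosure k K).val.toLinearMap.lTensor R) :=
    Module.Flat.lTensor_preserves_injective_linearMap _ (separableClosure k K).val.injective
  intro x y hxy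
  apply h1
  rw [PolLaw.lTensor_algHom_apply, PolLaw.lTensor_algHom_apply]
  exact hxy

omit [FiniteDimensional k K] in
theorem inc_one (R : Type u) [CommRing R] [Algebra k R] : inc k K R 1 = 1 := by
  rw [Algebra.TensorProduct.one_def, inc, Algebra.TensorProduct.map_tmul, map_one, map_one]
  rfl

omit [FiniteDimensional k K] in
theorem map_inc {R R' : Type u} [CommRing R] [Algebra k R] [CommRing R'] [Algebra k R']
    (φ : R →ₐ[k] R') (w : R ⊗[k] (separableClosure k K)) :
    bc K φ (inc k K R w) = inc k K R' (bc (separableClosure k K) φ w) := by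
  induction w using TensorProduct.induction_on with
  | zero => simp
  | tmul a b => simp [inc]
  | add a b ha hb => simp only [map_add, ha, hb]

omit [FiniteDimensional k K] in
theorem exists_root {q r : ℕ} [ExpChar k q]
    (hexp : ∀ x : K, x ^ q ^ r ∈ separableClosure k K) (n : ℕ)
    (z : MvPolynomial (Fin n) k ⊗[k] K) :
    ∃ w : MvPolynomial (Fin n) k ⊗[k] (separableClosure k K), inc k K _ w = z ^ q ^ r := by
  let π : MvPolynomial (Fin n) k ⊗[k] K →ₐ[k] K :=
    Algebra.TensorProduct.productMap ((Algebra.ofId k K).comp (MvPolynomial.aeval fun _ => (0 : k)))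
      (AlgHom.id k K)
  haveI : Nontrivial (MvPolynomial (Fin n) k ⊗[k] K) := π.toRingHom.domain_nontrivial
  haveI : ExpChar (MvPolynomial (Fin n) k ⊗[k] K) q :=
    expChar_of_injective_algebraMap (algebraMap k _).injective q
  induction z using TensorProduct.induction_on with
  | zero =>
    refine ⟨0, ?_⟩
    rw [map_zero, zero_pow]
    exact (pow_pos (expChar_pos k q) r).ne'
  | tmul a b =>
    refine ⟨(a ^ q ^ r) ⊗ₜ[k] (⟨b ^ q ^ r, hexp b⟩ : separableClosure k K), ?_⟩
    rw [inc, Algebra.TensorProduct.map_tmul, Algebra.TensorProduct.tmul_pow]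
    rfl
  | add a b ha hb =>
    obtain ⟨w, hw⟩ := ha
    obtain ⟨w', hw'⟩ := hb
    exact ⟨w + w', by rw [map_add, hw, hw', add_pow_expChar_pow]⟩

theorem exists_law {q r : ℕ} [ExpChar k q] (hexp : ∀ x : K, x ^ q ^ r ∈ separableClosure k K)
    (l : ℕ) : ∃ F : K →ₚₗ[k] k,
      (∀ (S : Type u) [CommRing S] [Algebra k S], F.toFun' S 1 = 1 ∧
        ∀ x y : S ⊗[k] K, F.toFun' S (x * y) = F.toFun' S x * F.toFun' S y) ∧
      ∀ (S : Type u) [CommRing S] [Algebra k S] (a : S) (z : S ⊗[k] K),
        F.toFun' S (a • z) =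
          a ^ (q ^ r * Module.finrank k (separableClosure k K) * l) • F.toFun' S z := by
  let N := PolLaw.normLaw k (separableClosure k K) _ rfl
  choose w hw using exists_root (k := k) (K := K) (q := q) (r := r) hexp
  have w_mul : ∀ n x y, w n (x * y) = w n x * w n y := fun n x y => inc_injective _ (by
    rw [hw, map_mul, hw, hw, mul_pow])
  have w_one : ∀ n, w n 1 = 1 := fun n => inc_injective _ (by
    rw [hw, one_pow]
    exact (inc_one _).symm)
  have w_smul : ∀ n (a : MvPolynomial (Fin n) k) z, w n (a • z) = a ^ q ^ r • w n z :=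
    fun n a z => inc_injective _ (by rw [hw, map_smul, hw, smul_pow])
  have w_map : ∀ {n m} (φ : MvPolynomial (Fin n) k →ₐ[k] MvPolynomial (Fin m) k) z,
      w m (bc K φ z) = bc (separableClosure k K) φ (w n z) :=
    fun φ z => inc_injective _ (by rw [hw, ← map_inc, hw, map_pow])
  let T : ∀ n : ℕ, MvPolynomial (Fin n) k ⊗[k] K → MvPolynomial (Fin n) k ⊗[k] k :=
    fun n z => (N.law.toFun' _ (w n z)) ^ l
  have hT : K754.PolLift.IsFam T := by
    intro n m φ
    funext z
    simp only [Function.comp_apply, T]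
    rw [rTensor_eq_bc, rTensor_eq_bc, map_pow, w_map, ← rTensor_eq_bc, ← rTensor_eq_bc,
      ← N.law.isCompat_apply']
  have T_mul : ∀ n x y, T n (x * y) = T n x * T n y := fun n x y => by
    simp only [T]
    rw [w_mul, (N.mult _).2, mul_pow]
  have T_one : ∀ n, T n 1 = 1 := fun n => by
    simp only [T]
    rw [w_one, (N.mult _).1, one_pow]
  have T_smul : ∀ n (a : MvPolynomial (Fin n) k) z,
      T n (a • z) = a ^ (q ^ r * Module.finrank k (separableClosure k K) * l) • T n z :=
    fun n a z => by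
      simp only [T]
      rw [w_smul, N.homog, smul_pow, ← pow_mul, ← pow_mul, mul_assoc]
  refine ⟨K754.PolLift.toLaw T hT, ?_, ?_⟩
  · intro S _ _
    refine ⟨?_, fun x y => ?_⟩
    · let φ : MvPolynomial (Fin 0) k →ₐ[k] S := MvPolynomial.aeval (fun i => i.elim0)
      have h1 := K754.PolLift.toLaw_toFun' hT φ 1
      rw [rTensor_eq_bc, rTensor_eq_bc, map_one, T_one, map_one] at h1
      exact h1
    · obtain ⟨n, ψ, p, p', rfl, rfl⟩ := K754.PolLift.exists_lift₂ x y
      have e : ψ.toLinearMap.rTensor K p * ψ.toLinearMap.rTensor K p' =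
          ψ.toLinearMap.rTensor K (p * p') := by
        rw [rTensor_eq_bc, rTensor_eq_bc, rTensor_eq_bc, map_mul]
      rw [e, K754.PolLift.toLaw_toFun', K754.PolLift.toLaw_toFun', K754.PolLift.toLaw_toFun',
        T_mul, rTensor_eq_bc, rTensor_eq_bc, rTensor_eq_bc, map_mul]
  · intro S _ _ a z
    obtain ⟨n, ψ, p, p', hp, rfl⟩ := K754.PolLift.exists_lift₂ (A := k) (M := k) (a ⊗ₜ[k] (1 : k)) z
    have hs : ψ (TensorProduct.rid k _ p) = a := by
      have h1 : ∀ z : MvPolynomial (Fin n) k ⊗[k] k,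
          ψ (TensorProduct.rid k _ z) = TensorProduct.rid k _ (ψ.toLinearMap.rTensor k z) := by
        intro z
        induction z using TensorProduct.induction_on with
        | zero => simp
        | tmul a b => simp
        | add a b ha hb => simp only [map_add, ha, hb]
      rw [h1, hp]
      simp
    have hsm : ∀ {P : Type u} [AddCommGroup P] [Module k P] (a : MvPolynomial (Fin n) k)
        (z : MvPolynomial (Fin n) k ⊗[k] P),
        ψ.toLinearMap.rTensor P (a • z) = ψ a • ψ.toLinearMap.rTensor P z := by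
      intro P _ _ a z
      induction z using TensorProduct.induction_on with
      | zero => simp
      | tmul b m => simp [TensorProduct.smul_tmul']
      | add b c hb hc => simp only [smul_add, map_add, hb, hc]
    rw [← hs, ← hsm, K754.PolLift.toLaw_toFun', K754.PolLift.toLaw_toFun', T_smul, hsm, map_pow]

end Exists

end K754.FieldLawFin
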