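import Groth.Agent.ZeroCyc.K754.ChartQuot
import Groth.Agent.ZeroCyc.K754.ProjPt
import Mathlib.AlgebraicGeometry.ProjectiveSpectrum.Basic
import Mathlib.AlgebraicGeometry.ProjectiveSpectrum.Functor
import Mathlib.RingTheory.Invariant.Basic

/-!
# The quotient of `Proj` by a finite group: algebra
-/

set_option autoImplicit false
universe u

open CategoryTheory CategoryTheory.Limits AlgebraicGeometry

namespace K754.ProjQuot

open Polynomial

section Coeff

variable {R A : Type*} [CommRing R] [CommRing A] [Algebra R A] (𝒜 : ℕ → Submodule R A)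
  [GradedAlgebra 𝒜]

theorem coeff_prod_mem {ι : Type*} [DecidableEq ι] (s : Finset ι) (a : ι → A) {n : ℕ}
    (ha : ∀ i ∈ s, a i ∈ 𝒜 n) :
    ∀ k ≤ s.card, (∏ i ∈ s, (X - C (a i))).coeff k ∈ 𝒜 (n * (s.card - k)) := by
  induction s using Finset.induction_on with
  | empty =>
    intro k hk
    obtain rfl : k = 0 := by simpa using hk
    simpa using SetLike.one_mem_graded 𝒜
  | insert j s hj ih =>
    intro k hk
    have ih' := ih (fun i hi => ha i (Finset.mem_insert_of_mem hi))
    have haj := ha j (Finset.mem_insert_self j s)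
    rw [Finset.card_insert_of_notMem hj] at hk ⊢
    rw [Finset.prod_insert hj, sub_mul, coeff_sub, coeff_C_mul]
    refine Submodule.sub_mem _ ?_ ?_
    · rcases k with _ | k
      · simp
      · rw [coeff_X_mul]
        have := ih' k (by omega)
        rwa [show s.card + 1 - (k + 1) = s.card - k by omega]
    · rcases Nat.lt_or_ge s.card k with h | h
      · have h0 : (∏ i ∈ s, (X - C (a i))).coeff k = 0 := by
          apply coeff_eq_zero_of_natDegree_lt
          refine lt_of_le_of_lt (natDegree_prod_le _ _) (lt_of_le_of_lt ?_ h)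
          refine (Finset.sum_le_sum (fun i _ => natDegree_X_sub_C_le (a i))).trans ?_
          simp
        rw [h0, mul_zero]
        exact Submodule.zero_mem _
      · have h1 := SetLike.mul_mem_graded (A := 𝒜) haj (ih' k h)
        have h2 : n + n * (s.card - k) = n * (s.card + 1 - k) := by
          rw [show s.card + 1 - k = (s.card - k) + 1 by omega]; ring
        rwa [h2] at h1

variable {G : Type*} [Group G] [Finite G] [MulSemiringAction G A]

theorem exists_invariant (hGdeg : ∀ (σ : G) (i : ℕ) (a : A), a ∈ 𝒜 i → σ • a ∈ 𝒜 i)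
    (P : Ideal A) [P.IsPrime] {n : ℕ} (hn : 0 < n) {f : A} (hf : f ∈ 𝒜 n) (hfP : f ∉ P) :
    ∃ (m : ℕ) (_ : 0 < m) (a : A), a ∈ 𝒜 m ∧ a ∉ P ∧ ∀ σ : G, σ • a = a := by
  classical
  cases nonempty_fintype G
  have hmon := MulSemiringAction.monic_charpoly G f
  have hdeg : (MulSemiringAction.charpoly G f).natDegree = Fintype.card G := by
    rw [MulSemiringAction.charpoly_eq,
      natDegree_prod_of_monic _ _ (fun g _ => monic_X_sub_C (g • f))]
    rw [Finset.sum_congr rfl (fun g _ => show (X - C (g • f)).natDegree = 1 from by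
      have : Nontrivial A := ⟨f, 0, fun h => hfP (h ▸ P.zero_mem)⟩
      exact natDegree_X_sub_C _)]
    simp
  by_contra hcon
  push Not at hcon
  have hco : ∀ k < Fintype.card G, (MulSemiringAction.charpoly G f).coeff k ∈ P := by
    intro k hk
    by_contra hkP
    have h1 := coeff_prod_mem 𝒜 (Finset.univ : Finset G) (fun g => g • f)
      (fun g _ => hGdeg g n f hf) k (by rw [Finset.card_univ]; exact hk.le)
    rw [Finset.card_univ] at h1
    obtain ⟨σ, hσ⟩ := hcon (n * (Fintype.card G - k)) (Nat.mul_pos hn (by omega)) _ h1 hkP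
    exact hσ (MulSemiringAction.smul_coeff_charpoly f k σ)
  have hev := MulSemiringAction.eval_charpoly G f
  rw [eval_eq_sum_range, Finset.sum_range_succ, hmon.coeff_natDegree, one_mul, hdeg] at hev
  have h2 : f ^ Fintype.card G ∈ P := by
    rw [eq_neg_of_add_eq_zero_right hev]
    refine P.neg_mem (Ideal.sum_mem _ fun k hk => ?_)
    exact P.mul_mem_right _ (hco k (Finset.mem_range.mp hk))
  exact hfP (‹P.IsPrime›.mem_of_pow_mem _ h2)

end Coeff

section Away

variable {R A : Type u} [CommRing R] [CommRing A] [Algebra R A] {𝒜 : ℕ → Submodule R A}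
  [GradedAlgebra 𝒜]
variable {R' A' : Type u} [CommRing R'] [CommRing A'] [Algebra R' A'] {ℬ : ℕ → Submodule R' A'}
  [GradedAlgebra ℬ]

/-- The map of degree zero localizations, with the target presented at a propositionally equal element. -/
noncomputable def awayMap (g : 𝒜 →+*ᵍ ℬ) (f : A) (f' : A') (h : g f = f') :
    HomogeneousLocalization.Away 𝒜 f →+* HomogeneousLocalization.Away ℬ f' :=
  HomogeneousLocalization.map g (by rintro _ ⟨n, rfl⟩; exact ⟨n, by simp [h]⟩)

theorem awayMap_mk (g : 𝒜 →+*ᵍ ℬ) (f : A) (f' : A') (h : g f = f') {d : ℕ} (hf : f ∈ 𝒜 d)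
    (hf' : f' ∈ ℬ d) (n : ℕ) (x : A) (hx : x ∈ 𝒜 (n • d)) :
    awayMap g f f' h (HomogeneousLocalization.Away.mk 𝒜 hf n x hx) =
      HomogeneousLocalization.Away.mk ℬ hf' n (g x) (Graded.map_mem g hx) := by
  subst h
  simp [awayMap, HomogeneousLocalization.Away.mk, HomogeneousLocalization.map_mk]

theorem compat (g : 𝒜 →+*ᵍ ℬ) (g' : A →+* A') (hg : ∀ a, g a = g' a) (f : A) {d : ℕ} (hf : f ∈ 𝒜 d) :
    (algebraMap (HomogeneousLocalization.Away ℬ (g' f)) (Localization.Away (g' f))).comp
      (awayMap g f (g' f) (hg f)) =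
    (Localization.awayMap g' f).comp
      (algebraMap (HomogeneousLocalization.Away 𝒜 f) (Localization.Away f)) := by
  ext z
  obtain ⟨n, a, ha, rfl⟩ := HomogeneousLocalization.Away.mk_surjective 𝒜 hf z
  have hf' : g' f ∈ ℬ d := by rw [← hg]; exact Graded.map_mem g hf
  rw [RingHom.comp_apply, RingHom.comp_apply, awayMap_mk g f _ (hg f) hf hf',
    HomogeneousLocalization.algebraMap_apply, HomogeneousLocalization.algebraMap_apply,
    HomogeneousLocalization.Away.val_mk, HomogeneousLocalization.Away.val_mk]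
  rw [Localization.awayMap, IsLocalization.Away.map, Localization.mk_eq_mk', Localization.mk_eq_mk',
    IsLocalization.map_mk']
  congr 1
  · exact hg a
  · apply Subtype.ext
    simp

theorem mk_eq_mk_iff {f : A} {d : ℕ} (hf : f ∈ 𝒜 d) (n m : ℕ) (x y : A) (hx : x ∈ 𝒜 (n • d))
    (hy : y ∈ 𝒜 (m • d)) :
    HomogeneousLocalization.Away.mk 𝒜 hf n x hx = HomogeneousLocalization.Away.mk 𝒜 hf m y hy ↔
      ∃ k, f ^ k * (f ^ m * x) = f ^ k * (f ^ n * y) := by
  rw [HomogeneousLocalization.ext_iff_val, HomogeneousLocalization.Away.val_mk,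
    HomogeneousLocalization.Away.val_mk, Localization.mk_eq_mk_iff, Localization.r_iff_exists]
  constructor
  · rintro ⟨⟨_, k, rfl⟩, hk⟩
    exact ⟨k, hk⟩
  · rintro ⟨k, hk⟩
    exact ⟨⟨_, k, rfl⟩, hk⟩

end Away

section Pt

variable {R A : Type u} [CommRing R] [CommRing A] [Algebra R A] (𝒜 : ℕ → Submodule R A)
  [GradedAlgebra 𝒜]

theorem exists_homogeneous_notMem (x : ProjectiveSpectrum 𝒜) :
    ∃ (n : ℕ) (_ : 0 < n) (a : A), a ∈ 𝒜 n ∧ a ∉ x.asHomogeneousIdeal := by
  obtain ⟨t, -, n, hn, htn, hx⟩ := K754.ProjPt.exists_not_mem 𝒜 (⋃ n, (𝒜 n : Set A))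
    (fun t ht => Set.mem_iUnion.mp ht) (by
      rw [eq_top_iff]
      intro a _
      classical
      rw [← DirectSum.sum_support_decompose 𝒜 a]
      exact Subalgebra.sum_mem _ fun i _ => Algebra.subset_adjoin
        (Set.mem_iUnion.mpr ⟨i, SetLike.coe_mem _⟩)) x
  exact ⟨n, hn, t, htn, hx⟩

end Pt

end K754.ProjQuot
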