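import Groth.Agent.Sga1.QuotExists

/-!
# Quotients by finite groups, checked on affine charts

`quotOn_of_chart`: let `p : X ⟶ Y` be `G`-invariant, `k : Spec A ⟶ Y` an open immersion whose image has as preimage
the image of the open immersion `j : Spec B ⟶ X`, with `p` over this chart equal to `Spec φ` and the action of `g` on
this chart equal to `Spec (θ g)`.  If `φ` is injective with image the invariants of the `θ g` then `QuotOn` holds
over the image of `k`.  `isQuot_of_charts`: if such charts cover `Y` then `p` is a quotient of `X` by `G`.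
-/

set_option autoImplicit false
universe u

open CategoryTheory CategoryTheory.Limits AlgebraicGeometry

namespace K754.ChartQuot

open Groth.Agent.Sga1.QuotBasic

variable {X Y : Scheme.{u}} {G : Type u} [Group G] {ρ : G →* Aut X} {p : X ⟶ Y}

theorem isIso_appLE_top {Z W : Scheme.{u}} (f : Z ⟶ W) [IsOpenImmersion f] (V : W.Opens)
    (hV : V = f ''ᵁ ⊤) (e : ⊤ ≤ f ⁻¹ᵁ V) : IsIso (f.appLE V ⊤ e) := by
  subst hV
  rw [← Scheme.Hom.appIso_hom']
  infer_instance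

theorem quotOn_of_chart (hinv : ∀ g : G, (ρ g).hom ≫ p = p)
    {A B : CommRingCat.{u}} (j : Spec B ⟶ X) [IsOpenImmersion j] (k : Spec A ⟶ Y) [IsOpenImmersion k]
    (φ : A ⟶ B) (hφ : j ≫ p = Spec.map φ ≫ k) (hpre : p ⁻¹ᵁ k.opensRange ≤ j.opensRange)
    (θ : G → (B ⟶ B)) (hθ : ∀ g, j ≫ (ρ g).hom = Spec.map (θ g) ≫ j)
    (hinj : Function.Injective φ.hom)
    (hsurj : ∀ b : B, (∀ g, (θ g).hom b = b) → b ∈ Set.range φ.hom) :
    QuotOn hinv k.opensRange := by
  set V := k.opensRange with hVdef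
  have hpre' : p ⁻¹ᵁ V = j.opensRange := by
    refine le_antisymm hpre ?_
    rintro _ ⟨z, rfl⟩
    change p (j z) ∈ V
    rw [← Scheme.Hom.comp_apply, hφ, Scheme.Hom.comp_apply]
    exact ⟨_, rfl⟩
  have e₁ : ⊤ ≤ k ⁻¹ᵁ V := fun x _ => ⟨x, rfl⟩
  have e₂ : ⊤ ≤ j ⁻¹ᵁ (p ⁻¹ᵁ V) := fun x _ => by
    change j x ∈ p ⁻¹ᵁ V
    rw [hpre']
    exact ⟨x, rfl⟩
  have i₁ : IsIso (k.appLE V ⊤ e₁) :=
    isIso_appLE_top _ _ (Scheme.Hom.image_top_eq_opensRange _).symm _
  have i₂ : IsIso (j.appLE (p ⁻¹ᵁ V) ⊤ e₂) :=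
    isIso_appLE_top _ _ (by rw [hpre', Scheme.Hom.image_top_eq_opensRange]) _
  let α := k.appLE V ⊤ e₁ ≫ (Scheme.ΓSpecIso A).hom
  have hα : Function.Bijective α.hom := ConcreteCategory.bijective_of_isIso (C := CommRingCat) α
  let β := j.appLE (p ⁻¹ᵁ V) ⊤ e₂ ≫ (Scheme.ΓSpecIso B).hom
  have hβ : Function.Bijective β.hom := ConcreteCategory.bijective_of_isIso (C := CommRingCat) β
  have hSp : ∀ {A' B' : CommRingCat.{u}} (ψ : A' ⟶ B'),
      (Spec.map ψ).appLE ⊤ ⊤ le_top ≫ (Scheme.ΓSpecIso B').hom = (Scheme.ΓSpecIso A').hom ≫ ψ := by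
    intro A' B' ψ
    rw [show (Spec.map ψ).appLE ⊤ ⊤ le_top = (Spec.map ψ).appTop from
      (Scheme.Hom.app_eq_appLE _).symm]
    exact Scheme.ΓSpecIso_naturality ψ
  have key : p.app V ≫ β = α ≫ φ := by
    simp only [α, β]
    rw [Scheme.Hom.app_eq_appLE, Scheme.Hom.appLE_comp_appLE_assoc, appLE_congr_hom hφ,
      ← Scheme.Hom.appLE_comp_appLE (Spec.map φ) k V ⊤ ⊤ e₁ le_top, Category.assoc, hSp,
      Category.assoc]
  have key' : ∀ a, β.hom ((p.app V).hom a) = φ.hom (α.hom a) := fun a =>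
    congrArg (fun k => k.hom a) key
  have kact : ∀ g, act ρ (stable_preimage hinv V) g ≫ β = β ≫ θ g := by
    intro g
    simp only [β, act]
    rw [Scheme.Hom.appLE_comp_appLE_assoc, appLE_congr_hom (hθ g),
      ← Scheme.Hom.appLE_comp_appLE (Spec.map (θ g)) j _ ⊤ ⊤ e₂ le_top, Category.assoc, hSp,
      Category.assoc]
  have kact' : ∀ g s, β.hom ((act ρ (stable_preimage hinv V) g).hom s) = (θ g).hom (β.hom s) :=
    fun g s => congrArg (fun k => k.hom s) (kact g)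
  constructor
  · intro a b hab
    apply hα.1
    apply hinj
    rw [← key', ← key', hab]
  · intro s hs
    obtain ⟨a', ha'⟩ := hsurj (β.hom s) (fun g => by rw [← kact', hs g])
    obtain ⟨a, rfl⟩ := hα.2 a'
    exact ⟨a, hβ.1 (by rw [key', ha'])⟩

/-- A quotient from a cover by charts. -/
theorem isQuot_of_charts [Finite G] (hinv : ∀ g : G, (ρ g).hom ≫ p = p)
    (h : ∀ y : Y, ∃ (A B : CommRingCat.{u}) (j : Spec B ⟶ X) (_ : IsOpenImmersion j)
      (k : Spec A ⟶ Y) (_ : IsOpenImmersion k) (φ : A ⟶ B) (θ : G → (B ⟶ B)),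
      y ∈ k.opensRange ∧ j ≫ p = Spec.map φ ≫ k ∧ p ⁻¹ᵁ k.opensRange ≤ j.opensRange ∧
      (∀ g, j ≫ (ρ g).hom = Spec.map (θ g) ≫ j) ∧ Function.Injective φ.hom ∧
      (∀ b : B, (∀ g, (θ g).hom b = b) → b ∈ Set.range φ.hom)) :
    SGA1.IsQuot ρ p := by
  haveI : IsAffineHom p := by
    apply isAffineHom_of_forall_exists_isAffineOpen
    intro y
    obtain ⟨A, B, j, _, k, _, φ, θ, hy, hφ, hpre, -, -, -⟩ := h y
    refine ⟨k.opensRange, hy, isAffineOpen_opensRange k, ?_⟩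
    have hpre' : p ⁻¹ᵁ k.opensRange = j.opensRange := by
      refine le_antisymm hpre ?_
      rintro _ ⟨z, rfl⟩
      change p (j z) ∈ k.opensRange
      rw [← Scheme.Hom.comp_apply, hφ, Scheme.Hom.comp_apply]
      exact ⟨_, rfl⟩
    rw [hpre']
    exact isAffineOpen_opensRange j
  apply isQuot_of_affine_cover hinv
  intro y
  obtain ⟨A, B, j, _, k, _, φ, θ, hy, hφ, hpre, hθ, hinj, hsurj⟩ := h y
  exact ⟨k.opensRange, hy, isAffineOpen_opensRange k,
    quotOn_of_chart hinv j k φ hφ hpre θ hθ hinj hsurj⟩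

end K754.ChartQuot
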