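import Groth.Prelude.Def_PolLaw
import Groth.Agent.ZeroCyc.K754.PolLift

/-!
# Multiplicativity and homogeneity of polynomial laws can be checked on test rings
-/

set_option autoImplicit false
universe u
open scoped TensorProduct

namespace K754.LawConv

variable {A : Type u} [CommRing A] {B C : Type u} [CommRing B] [Algebra A B] [CommRing C] [Algebra A C]

theorem isMult_of_commRing (F : B →ₚₗ[A] C)
    (h : ∀ (S : Type u) [CommRing S] [Algebra A S],
      F.toFun' S 1 = 1 ∧ ∀ x y : S ⊗[A] B, F.toFun' S (x * y) = F.toFun' S x * F.toFun' S y) :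
    PolLaw.IsMult F := by
  intro S _ _
  constructor
  · let φ : MvPolynomial (Fin 0) A →ₐ[A] S := MvPolynomial.aeval (fun i => i.elim0)
    have h1 := F.isCompat_apply' φ 1
    rw [K754.PolLift.rTensor_eq_map, K754.PolLift.rTensor_eq_map, map_one, (h _).1, map_one] at h1
    exact h1.symm
  · intro x y
    obtain ⟨n, ψ, p, q, rfl, rfl⟩ := K754.PolLift.exists_lift₂ x y
    rw [← F.isCompat_apply', ← F.isCompat_apply', K754.PolLift.rTensor_eq_map,
      K754.PolLift.rTensor_eq_map, ← map_mul, ← K754.PolLift.rTensor_eq_map, ← F.isCompat_apply',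
      (h _).2, K754.PolLift.rTensor_eq_map, K754.PolLift.rTensor_eq_map,
      K754.PolLift.rTensor_eq_map, map_mul]

theorem isHomog_of_commRing {M N : Type u} [AddCommGroup M] [Module A M] [AddCommGroup N]
    [Module A N] (F : M →ₚₗ[A] N) (d : ℕ)
    (h : ∀ (S : Type u) [CommRing S] [Algebra A S] (a : S) (z : S ⊗[A] M),
      F.toFun' S (a • z) = a ^ d • F.toFun' S z) : PolLaw.IsHomog F d := by
  intro S _ _ s x
  obtain ⟨n, ψ, p, q, hp, rfl⟩ := K754.PolLift.exists_lift₂ (A := A) (M := A) (s ⊗ₜ[A] (1 : A)) x
  have hs : ψ (TensorProduct.rid A _ p) = s := by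
    have h1 : ∀ z : MvPolynomial (Fin n) A ⊗[A] A,
        ψ (TensorProduct.rid A _ z) = TensorProduct.rid A _ (ψ.toLinearMap.rTensor A z) := by
      intro z
      induction z using TensorProduct.induction_on with
      | zero => simp
      | tmul a b => simp
      | add a b ha hb => simp only [map_add, ha, hb]
    rw [h1, hp]
    simp
  have hsm : ∀ {P : Type u} [AddCommGroup P] [Module A P] (a : MvPolynomial (Fin n) A)
      (z : MvPolynomial (Fin n) A ⊗[A] P),
      ψ.toLinearMap.rTensor P (a • z) = ψ a • ψ.toLinearMap.rTensor P z := by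
    intro P _ _ a z
    induction z using TensorProduct.induction_on with
    | zero => simp
    | tmul b m => simp [TensorProduct.smul_tmul']
    | add b c hb hc => simp only [smul_add, map_add, hb, hc]
  rw [← hs, ← hsm, ← F.isCompat_apply', ← F.isCompat_apply', h, hsm, map_pow]

end K754.LawConv
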