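import Groth.Agent.ZeroCyc.K757.TSBasis
import Groth.Agent.ZeroCyc.K754.LawConv
import Mathlib.RingTheory.Ideal.GoingUp
import Mathlib.FieldTheory.IsAlgClosed.Basic

/-!
# Multiplicative laws over a field: values are products of embeddings

`exists_prod`: for a multiplicative law `F : K → k` homogeneous of degree `d`, `K` integral over the field `k`, and an
algebraically closed extension `Ω` of `k`, there are `k`-algebra maps `σ_1, …, σ_d : K → Ω` such that over every
`Ω`-algebra `T` the value of `F` at `x ∈ T ⊗ K` is `∏ σ_i(x)`.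
-/

set_option autoImplicit false
set_option linter.style.haveILetI false
universe u
open scoped TensorProduct

namespace K754.FieldLaw

open K757.Ev K757.TSBasis

/-- Extension of algebra maps into algebraically closed fields along integral extensions. -/
theorem exists_extend {k D : Type u} [Field k] [CommRing D] [Algebra k D] (A : Subalgebra k D)
    [Algebra.IsIntegral A D] {Ω : Type u} [Field Ω] [IsAlgClosed Ω] [Algebra k Ω] (f : A →ₐ[k] Ω) :
    ∃ g : D →ₐ[k] Ω, ∀ a : A, g a = f a := by
  let p : Ideal A := RingHom.ker f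
  have hp : p.IsPrime := RingHom.ker_isPrime f
  obtain ⟨P, -, hP, hPp⟩ := Ideal.exists_ideal_over_prime_of_isIntegral p (⊥ : Ideal D) (by
    intro a ha
    have ha' : (a : D) = 0 := ha
    have : a = 0 := Subtype.ext ha'
    rw [this]
    exact p.zero_mem)
  let _ : Algebra A Ω := f.toRingHom.toAlgebra
  let _ : Algebra (A ⧸ p) Ω := (Ideal.Quotient.lift p f.toRingHom (fun a ha => ha)).toAlgebra
  have hle : p ≤ P.comap (algebraMap A D) := hPp.ge
  let _ : Algebra (A ⧸ p) (D ⧸ P) := (Ideal.quotientMap P (algebraMap A D) hle).toAlgebra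
  have hinj : Function.Injective (algebraMap (A ⧸ p) (D ⧸ P)) :=
    Ideal.quotientMap_injective' (h := hPp.le)
  have hinj2 : Function.Injective (algebraMap (A ⧸ p) Ω) := by
    rw [injective_iff_map_eq_zero]
    intro a ha
    obtain ⟨a, rfl⟩ := Ideal.Quotient.mk_surjective a
    exact Ideal.Quotient.eq_zero_iff_mem.mpr ha
  haveI : FaithfulSMul (A ⧸ p) (D ⧸ P) := (faithfulSMul_iff_algebraMap_injective _ _).mpr hinj
  haveI : FaithfulSMul (A ⧸ p) Ω := (faithfulSMul_iff_algebraMap_injective _ _).mpr hinj2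
  haveI : Algebra.IsIntegral (A ⧸ p) (D ⧸ P) := by
    constructor
    intro x
    obtain ⟨x, rfl⟩ := Ideal.Quotient.mk_surjective x
    obtain ⟨q, hq, hq0⟩ := Algebra.IsIntegral.isIntegral (R := A) x
    refine ⟨q.map (Ideal.Quotient.mk p), hq.map _, ?_⟩
    rw [Polynomial.eval₂_map]
    have h1 : (algebraMap (A ⧸ p) (D ⧸ P)).comp (Ideal.Quotient.mk p) =
        (Ideal.Quotient.mk P).comp (algebraMap A D) := by ext; rfl
    rw [h1, ← Polynomial.hom_eval₂, hq0, map_zero]
  let g : (D ⧸ P) →ₐ[A ⧸ p] Ω := IsAlgClosed.lift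
  have hg : ∀ a : A, g (Ideal.Quotient.mk P (a : D)) = f a := by
    intro a
    exact g.commutes (Ideal.Quotient.mk p a)
  refine ⟨{ g.toRingHom.comp (Ideal.Quotient.mk P) with
    commutes' := fun r => ?_ }, hg⟩
  change g (Ideal.Quotient.mk P (algebraMap k D r)) = _
  have h1 := hg (algebraMap k A r)
  rw [f.commutes] at h1
  exact h1

section Main

variable {k : Type u} [Field k] {K : Type u} [CommRing K] [Algebra k K]
  {Ω : Type u} [Field Ω] [Algebra k Ω]

/-- `T ⊗ K → T`, `t ⊗ a ↦ t * σ a`, for an algebra `T` over `Ω`. -/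
noncomputable def E (σ : K →ₐ[k] Ω) (T : Type u) [CommRing T] [Algebra k T] [Algebra Ω T]
    [IsScalarTower k Ω T] : T ⊗[k] K →ₐ[k] T :=
  Algebra.TensorProduct.productMap (AlgHom.id k T) ((IsScalarTower.toAlgHom k Ω T).comp σ)

theorem E_tmul (σ : K →ₐ[k] Ω) (T : Type u) [CommRing T] [Algebra k T] [Algebra Ω T]
    [IsScalarTower k Ω T] (t : T) (a : K) : E σ T (t ⊗ₜ[k] a) = t * algebraMap Ω T (σ a) := by
  simp [E]

theorem E_smul (σ : K →ₐ[k] Ω) (T : Type u) [CommRing T] [Algebra k T] [Algebra Ω T]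
    [IsScalarTower k Ω T] (t : T) (x : T ⊗[k] K) : E σ T (t • x) = t * E σ T x := by
  induction x using TensorProduct.induction_on with
  | zero => simp
  | tmul s a => rw [TensorProduct.smul_tmul', E_tmul, E_tmul, smul_eq_mul, mul_assoc]
  | add x y hx hy => rw [smul_add, map_add, hx, hy, map_add, mul_add]

theorem ev_tpowLaw {d : ℕ} {T : Type u} [CommRing T] [Algebra k T]
    (g : (⨂[k] _ : Fin d, K) →ₐ[k] T) (x : T ⊗[k] K) :
    ev (SymTen.tpowLaw k K d).law g x = ∏ i : Fin d,
      Algebra.TensorProduct.productMap (AlgHom.id k T)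
        (g.comp (PiTensorProduct.singleAlgHom (R := k) (A := fun _ : Fin d => K) i)) x := by
  rw [ev]
  change mulMap g (∏ i : Fin d, Algebra.TensorProduct.map (AlgHom.id T T)
    (PiTensorProduct.singleAlgHom (R := k) (A := fun _ : Fin d => K) i) x) = _
  rw [map_prod]
  refine Finset.prod_congr rfl fun i _ => ?_
  induction x using TensorProduct.induction_on with
  | zero => simp
  | tmul s a => simp [mulMap]
  | add x y hx hy => simp only [map_add, hx, hy]

/-- Values of multiplicative laws over a field are products of embeddings. -/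
theorem exists_prod [IsAlgClosed Ω] [Module.Finite k K] {d : ℕ} (F : PolLaw.MulLaw k K k d) :
    ∃ σ : Fin d → (K →ₐ[k] Ω), ∀ (T : Type u) [CommRing T] [Algebra k T] [Algebra Ω T]
      [IsScalarTower k Ω T] (x : T ⊗[k] K),
      ev F.law (Algebra.ofId k T) x = ∏ i, E (σ i) T x := by
  let b := Module.Free.chooseBasis k K
  let ι := Module.Free.ChooseBasisIndex k K
  let bb : Module.Basis (ULift.{u} ι) k K := b.reindex Equiv.ulift.symm
  let f : SymTen.TS k K d →ₐ[k] Ω := (Algebra.ofId k Ω).comp (liftAlg bb F)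
  haveI : Module.Finite k (⨂[k] _ : Fin d, K) := Module.Finite.of_basis (bQ bb d)
  haveI : Algebra.IsIntegral (SymTen.TS k K d) (⨂[k] _ : Fin d, K) := by
    have : Algebra.IsIntegral k (⨂[k] _ : Fin d, K) := Algebra.IsIntegral.of_finite k _
    exact Algebra.IsIntegral.tower_top k
  obtain ⟨g, hg⟩ := exists_extend (SymTen.TS k K d) f
  have hg' : g.comp (SymTen.TS k K d).val = f := AlgHom.ext hg
  refine ⟨fun i => g.comp (PiTensorProduct.singleAlgHom (R := k) (A := fun _ : Fin d => K) i), ?_⟩
  intro T _ _ _ _ x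
  let θ : Ω →ₐ[k] T := IsScalarTower.toAlgHom k Ω T
  have h1 : ev F.law (Algebra.ofId k T) x = ev (SymTen.tpowLaw k K d).law (θ.comp g) x := by
    have e1 : (θ.comp g).comp (SymTen.TS k K d).val = (Algebra.ofId k T).comp (liftAlg bb F) := by
      rw [AlgHom.comp_assoc, hg']
      apply AlgHom.ext
      intro z
      change θ (algebraMap k Ω (liftAlg bb F z)) = algebraMap k T _
      exact θ.commutes _
    rw [← postcomp_liftAlg bb F, ev_postcomp, ← uLaw_val bb d, ev_postcomp, e1]
  rw [h1, ev_tpowLaw]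
  refine Finset.prod_congr rfl fun i _ => ?_
  rfl

end Main

end K754.FieldLaw
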