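import Groth.Agent.ZeroCyc.K754.FieldLaw
import Mathlib.FieldTheory.PurelyInseparable.Basic
import Mathlib.FieldTheory.PrimitiveElement
import Mathlib.FieldTheory.SeparableClosure
import Mathlib.RingTheory.Multiplicity

/-!
# Multiplicative laws `K → k` for a finite field extension: all embeddings occur with the same multiplicity
-/

set_option autoImplicit false
universe u
open scoped TensorProduct
open Polynomial

namespace K754.FieldLawMult

open K757.Ev K754.FieldLaw

/-- A monic polynomial over `k` which splits in `Ω`, with all its roots among those of the irreducible `f`, is a power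
of `f`. -/
theorem exists_eq_pow {k : Type u} [Field k] {Ω : Type u} [Field Ω] [Algebra k Ω] {ι : Type*}
    [Fintype ι] (r : ι → Ω) (χ f : k[X]) (hf : f.Monic) (hfi : Irreducible f)
    (hχ : χ.map (algebraMap k Ω) = ∏ i, (X - C (r i))) (hr : ∀ i, aeval (r i) f = 0) :
    ∃ m : ℕ, χ = f ^ m := by
  have hχm : χ.Monic := by
    apply Polynomial.monic_of_injective (algebraMap k Ω).injective
    rw [hχ]
    exact monic_prod_X_sub_C r _
  have hfin : FiniteMultiplicity f χ :=
    Polynomial.finiteMultiplicity_of_degree_pos_of_monic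
      (Polynomial.degree_pos_of_irreducible hfi) hf hχm.ne_zero
  obtain ⟨h, hh, hnd⟩ := hfin.exists_eq_pow_mul_and_not_dvd
  refine ⟨multiplicity f χ, ?_⟩
  have hhm : h.Monic := (hf.pow _).of_mul_monic_left (hh ▸ hχm)
  have hdeg : h.natDegree = 0 := by
    by_contra hne
    -- `h` divides the product, so it splits
    have hdvd : h.map (algebraMap k Ω) ∣ ∏ i, (X - C (r i)) := by
      rw [← hχ, hh, Polynomial.map_mul]
      exact Dvd.intro_left _ rfl
    have hsp : (h.map (algebraMap k Ω)).Splits := by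
      refine Polynomial.Splits.of_dvd (g := ∏ i, (X - C (r i))) ?_ ?_ hdvd
      · exact Polynomial.Splits.prod fun i _ => Polynomial.Splits.X_sub_C _
      · exact (monic_prod_X_sub_C r _).ne_zero
    have hd : (h.map (algebraMap k Ω)).degree ≠ 0 := by
      rw [Polynomial.degree_map]
      exact fun h0 => hne (natDegree_eq_of_degree_eq_some h0)
    obtain ⟨y, hy⟩ := hsp.exists_eval_eq_zero hd
    have hy2 : (∏ i, (X - C (r i))).eval y = 0 := by
      obtain ⟨c, hc⟩ := hdvd
      rw [hc, eval_mul, hy, zero_mul]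
    rw [eval_prod, Finset.prod_eq_zero_iff] at hy2
    obtain ⟨i, -, hi⟩ := hy2
    rw [eval_sub, eval_X, eval_C, sub_eq_zero] at hi
    apply hnd
    have h1 : f = minpoly k y := by
      refine minpoly.eq_of_irreducible_of_monic hfi ?_ hf
      rw [hi]; exact hr i
    rw [h1]
    apply minpoly.dvd
    rw [aeval_def, eval₂_eq_eval_map, hy]
  have h1 : h = 1 := (Polynomial.Monic.natDegree_eq_zero hhm).mp hdeg
  conv_lhs => rw [hh]
  rw [h1, mul_one]

variable {k : Type u} [Field k] {K : Type u} [Field K] [Algebra k K] [FiniteDimensional k K]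
  {Ω : Type u} [Field Ω] [Algebra k Ω] [IsAlgClosed Ω]

/-- A primitive element of the separable closure of `k` in `K`. -/
theorem exists_gen (k : Type u) [Field k] (K : Type u) [Field K] [Algebra k K] [FiniteDimensional k K] :
    ∃ θ : K, θ ∈ separableClosure k K ∧ ∀ (L : Type u) [Field L] [Algebra k L] (φ ψ : K →ₐ[k] L),
      φ θ = ψ θ → φ = ψ := by
  let pb := Field.powerBasisOfFiniteOfSeparable k (separableClosure k K)
  refine ⟨pb.gen, pb.gen.2, ?_⟩
  intro L _ _ φ ψ h
  apply IsPurelyInseparable.injective_restrictDomain (separableClosure k K) K k L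
  exact pb.algHom_ext h

omit [IsAlgClosed Ω] in
theorem exists_mult [DecidableEq (K →ₐ[k] Ω)] {d : ℕ} (F : PolLaw.MulLaw k K k d) (σ : Fin d → (K →ₐ[k] Ω))
    (hσ : ∀ (T : Type u) [CommRing T] [Algebra k T] [Algebra Ω T]
      [IsScalarTower k Ω T] (x : T ⊗[k] K),
      ev F.law (Algebra.ofId k T) x = ∏ i, E (σ i) T x) :
    ∃ m : ℕ, ∀ j : K →ₐ[k] Ω, (Finset.univ.filter (fun i => σ i = j)).card = m := by
  classical
  obtain ⟨θ, hθs, hθ⟩ := exists_gen k K
  let x₀ : k[X] ⊗[k] K := (X : k[X]) ⊗ₜ[k] (1 : K) - 1 ⊗ₜ[k] θ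
  let χ : k[X] := ev F.law (Algebra.ofId k k[X]) x₀
  let h : k[X] →ₐ[k] Ω[X] := Polynomial.mapAlgHom (Algebra.ofId k Ω)
  have hh : ∀ p, h p = p.map (algebraMap k Ω) := fun p => rfl
  have hχ : χ.map (algebraMap k Ω) = ∏ i, (X - C (σ i θ)) := by
    rw [← hh, ev_map, show h.comp (Algebra.ofId k k[X]) = Algebra.ofId k Ω[X] from
      Subsingleton.elim _ _, hσ]
    refine Finset.prod_congr rfl fun i _ => ?_
    have h1 : bc K h x₀ = (X : Ω[X]) ⊗ₜ[k] (1 : K) - 1 ⊗ₜ[k] θ := by
      simp [x₀, hh]
    rw [h1, map_sub, E_tmul, E_tmul, map_one, map_one, mul_one, one_mul]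
    rfl
  let f := minpoly k θ
  have hfint : IsIntegral k θ := Algebra.IsIntegral.isIntegral θ
  obtain ⟨m, hm⟩ := exists_eq_pow (Ω := Ω) (fun i => σ i θ) χ f (minpoly.monic hfint)
    (minpoly.irreducible hfint) hχ (fun i => by
      rw [Polynomial.aeval_algHom_apply, minpoly.aeval, map_zero])
  refine ⟨m, fun j => ?_⟩
  have hsep : (f.map (algebraMap k Ω)).Separable := by
    have : f.Separable := hθs
    exact this.map
  have hroots : (∏ i, (X - C (σ i θ)) : Ω[X]).roots = Finset.univ.val.map (fun i => σ i θ) := by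
    have : (∏ i, (X - C (σ i θ)) : Ω[X]) = ((Finset.univ.val.map (fun i => σ i θ)).map
        (fun a => X - C a)).prod := by
      rw [Multiset.map_map]; rfl
    rw [this, roots_multiset_prod_X_sub_C]
  have h1 : Multiset.count (j θ) (Finset.univ.val.map (fun i => σ i θ)) = m := by
    rw [← hroots, ← hχ, hm, Polynomial.map_pow, roots_pow, Multiset.count_nsmul,
      Multiset.count_eq_one_of_mem (nodup_roots hsep), mul_one]
    rw [mem_roots (hsep.ne_zero), IsRoot.def, eval_map, ← aeval_def,
      Polynomial.aeval_algHom_apply, minpoly.aeval, map_zero]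
  rw [← h1, Multiset.count_map]
  change _ = (Finset.univ.filter (fun i => j θ = σ i θ)).card
  congr 1
  ext i
  simp only [Finset.mem_filter, Finset.mem_univ, true_and]
  exact ⟨fun h => by rw [h], fun h => hθ Ω _ _ h.symm⟩

/-- The values of a multiplicative law `K → k` of degree `d`: `∏_j j(x)^m`, where `j` ranges over the embeddings. -/
theorem exists_formula [Fintype (K →ₐ[k] Ω)] {d : ℕ} (F : PolLaw.MulLaw k K k d) :
    ∃ m : ℕ, Fintype.card (K →ₐ[k] Ω) * m = d ∧
      ∀ (T : Type u) [CommRing T] [Algebra k T] [Algebra Ω T] [IsScalarTower k Ω T] (x : T ⊗[k] K),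
        ev F.law (Algebra.ofId k T) x = ∏ j : K →ₐ[k] Ω, E j T x ^ m := by
  classical
  obtain ⟨σ, hσ⟩ := exists_prod (Ω := Ω) F
  obtain ⟨m, hm⟩ := exists_mult F σ hσ
  refine ⟨m, ?_, ?_⟩
  · have h1 := Finset.card_eq_sum_card_fiberwise (f := σ) (s := Finset.univ) (t := Finset.univ)
      (fun _ _ => Finset.mem_coe.mpr (Finset.mem_univ _))
    rw [Finset.sum_congr rfl (fun j _ => hm j), Finset.sum_const, Finset.card_univ,
      Finset.card_univ, Fintype.card_fin, smul_eq_mul] at h1
    exact h1.symm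
  · intro T _ _ _ _ x
    rw [hσ, ← Finset.prod_fiberwise Finset.univ σ]
    refine Finset.prod_congr rfl fun j _ => ?_
    rw [Finset.prod_congr rfl (fun i hi => by rw [(Finset.mem_filter.mp hi).2]), Finset.prod_const,
      hm]

end K754.FieldLawMult
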