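import Groth.Agent.Sga1.QuotBasic
import Groth.Prelude.Def_Fitting

/-!
# The norm of a quotient by a finite group

For a quotient `p : X ⟶ Y` of `X` by the finite group `G`, `N(s) = ∏_σ σ^* s` is a norm of degree `|G|` for `p`.
-/

set_option autoImplicit false
universe u

open CategoryTheory CategoryTheory.Limits AlgebraicGeometry

namespace K754.QuotNorm

open Groth.Agent.Sga1.QuotBasic

variable {X Y : Scheme.{u}} {G : Type u} [Group G] [Fintype G] {ρ : G →* Aut X} {p : X ⟶ Y}

/-- The product of the translates of a section over a stable open. -/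
noncomputable def prodAct {U : X.Opens} (hU : Stable ρ U) : Γ(X, U) →* Γ(X, U) where
  toFun s := ∏ g : G, (act ρ hU g).hom s
  map_one' := by simp
  map_mul' s t := by simp [Finset.prod_mul_distrib]

theorem prodAct_apply {U : X.Opens} (hU : Stable ρ U) (s : Γ(X, U)) :
    prodAct hU s = ∏ g : G, (act ρ hU g).hom s := rfl

theorem act_prodAct {U : X.Opens} (hU : Stable ρ U) (s : Γ(X, U)) (h : G) :
    (act ρ hU h).hom (prodAct hU s) = prodAct hU s := by
  rw [prodAct_apply, map_prod]
  refine Fintype.prod_equiv (Equiv.mulRight h) _ _ (fun g => ?_)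
  rw [Equiv.coe_mulRight, act_mul_apply]

theorem prodAct_of_fixed {U : X.Opens} (hU : Stable ρ U) (s : Γ(X, U))
    (hs : ∀ g, (act ρ hU g).hom s = s) : prodAct hU s = s ^ Fintype.card G := by
  rw [prodAct_apply, Finset.prod_congr rfl (fun g _ => hs g), Finset.prod_const, Finset.card_univ]

theorem prodAct_res {U V : X.Opens} (hU : Stable ρ U) (hV : Stable ρ V) (i : V ≤ U) (s : Γ(X, U)) :
    (X.presheaf.map (homOfLE i).op).hom (prodAct hU s) =
      prodAct hV ((X.presheaf.map (homOfLE i).op).hom s) := by
  rw [prodAct_apply, prodAct_apply, map_prod]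
  exact Finset.prod_congr rfl (fun g _ => act_res_apply hU hV i g s)

theorem basicOpen_prodAct_le {U : X.Opens} (hU : Stable ρ U) (s : Γ(X, U)) :
    X.basicOpen (prodAct hU s) ≤ X.basicOpen s := by
  classical
  rw [prodAct_apply, ← Finset.mul_prod_erase Finset.univ _ (Finset.mem_univ (1 : G)),
    act_one_apply, Scheme.basicOpen_mul]
  exact inf_le_left

theorem exists_norm (hp : SGA1.IsQuot ρ p) (U : Y.Opens) (s : Γ(X, p ⁻¹ᵁ U)) :
    ∃ a : Γ(Y, U), (p.app U).hom a = prodAct (stable_preimage hp.inv U) s := by
  obtain ⟨a, ha⟩ := (quotOn_of_isQuot hp U).surj (prodAct (stable_preimage hp.inv U) s)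
    (fun g => act_prodAct (stable_preimage hp.inv U) s g)
  exact ⟨a, ha⟩

/-- The norm on sections. -/
noncomputable def nm (hp : SGA1.IsQuot ρ p) (U : Y.Opens) (s : Γ(X, p ⁻¹ᵁ U)) : Γ(Y, U) :=
  (exists_norm hp U s).choose

theorem app_nm (hp : SGA1.IsQuot ρ p) (U : Y.Opens) (s : Γ(X, p ⁻¹ᵁ U)) :
    (p.app U).hom (nm hp U s) = prodAct (stable_preimage hp.inv U) s :=
  (exists_norm hp U s).choose_spec

/-- The norm of degree `|G|` for a quotient by the finite group `G`. -/
noncomputable def norm (hp : SGA1.IsQuot ρ p) : Nrm.NormOfDegree p (Fintype.card G) where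
  one_le := Fintype.card_pos
  norm U :=
    { toFun := nm hp U
      map_one' := by
        apply hp.injective U
        rw [app_nm, map_one, map_one]
      map_mul' := fun s t => by
        apply hp.injective U
        rw [app_nm, map_mul, map_mul, app_nm, app_nm] }
  norm_res {U V} i s := by
    apply hp.injective V
    change (p.app V).hom ((Y.presheaf.map i.op).hom (nm hp U s)) =
      (p.app V).hom (nm hp V ((X.presheaf.map ((TopologicalSpace.Opens.map p.base).map i).op).hom s))
    have h1 := congrArg (fun k => k.hom (nm hp U s)) (Scheme.Hom.naturality p i.op)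
    refine (h1 : _ = _).trans ?_
    change (X.presheaf.map _).hom ((p.app U).hom (nm hp U s)) = _
    rw [app_nm, app_nm]
    exact prodAct_res (stable_preimage hp.inv U) (stable_preimage hp.inv V)
      (fun x hx => leOfHom i hx) s
  norm_app U a := by
    apply hp.injective U
    change (p.app U).hom (nm hp U _) = _
    rw [app_nm, map_pow]
    exact prodAct_of_fixed _ _ (fun g => act_app_apply hp.inv U g a)
  norm_mem U s x hx h := by
    rw [IsLocalRing.mem_maximalIdeal, mem_nonunits_iff] at h ⊢
    intro hu
    apply h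
    rw [← Scheme.mem_basicOpen] at hu ⊢
    have h1 : x ∈ p ⁻¹ᵁ Y.basicOpen (nm hp U s) := hu
    rw [Scheme.preimage_basicOpen] at h1
    have h2 : (p.app U).hom (nm hp U s) = prodAct (stable_preimage hp.inv U) s := app_nm hp U s
    have h3 : x ∈ X.basicOpen (prodAct (stable_preimage hp.inv U) s) := by
      rw [← h2]; exact h1
    exact basicOpen_prodAct_le _ _ h3

end K754.QuotNorm
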