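import Groth.Agent.Ega3B.ProjAmple
import Groth.Agent.FormalB.TwistFrac
import Groth.Agent.Ega1.GlobGenPt
import Groth.Agent.ZeroCyc.K754.ProjPt
import Groth.Prelude.Def_ProjUP

/-!
# Generation of the twisting sheaves `O(n)` by the global sections `b / 1`, `b` of degree `n`
-/

set_option autoImplicit false

universe u

open CategoryTheory CategoryTheory.Limits AlgebraicGeometry TopologicalSpace Opposite

namespace K754.TwGen

open Groth.Agent Groth.Agent.Ega3B.ProjAmple Groth.Agent.FormalB.TwistFrac Groth.Agent.FormalB.GrTildeSect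
open Groth.Agent.Fdesc.LocGen

variable {R A : Type u} [CommRing R] [CommRing A] [Algebra R A] {𝒜 : ℕ → Submodule R A} [GradedAlgebra 𝒜]

/-- the global section `b / 1` of `O(n)`. -/
noncomputable def glob {n : ℕ} (b : 𝒜 n) : Γ(Twist.twist 𝒜 (n : ℤ), ⊤) := Twist.globalOf 𝒜 b

theorem isGen_glob {n : ℕ} (b : 𝒜 n) :
    IsGen (Groth.Agent.Fdesc.LocGen.res (Twist.twist 𝒜 (n : ℤ)) (le_top : Proj.basicOpen 𝒜 b.1 ≤ ⊤) (glob b)) :=
  Ega2.TwistBasic.isGen_fracSec (n : ℤ) b (⟨1, SetLike.GradedOne.one_mem⟩ : 𝒜 0) (by simp) (Proj.basicOpen 𝒜 b.1)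
    (fun x _ h => (x : ProjectiveSpectrum 𝒜).isPrime.ne_top ((Ideal.eq_top_iff_one _).mpr h)) (fun x hx => hx)

theorem generatedBy_of_coveredBy {n : ℕ} (h : CoveredBy 𝒜 n) :
    ProjUP.GeneratedBy (Twist.twist 𝒜 (n : ℤ))
      (fun b : 𝒜 n => (Twist.globalOf 𝒜 b : ProjUP.Γm (Twist.twist 𝒜 (n : ℤ)))) := by
  intro x
  obtain ⟨g, hg⟩ := h x
  have h1 := Ega1.GlobGenPt.span_germ_eq_top (isGen_glob g) x hg
  rw [eq_top_iff, ← h1, Submodule.span_le]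
  rintro _ rfl
  rw [Ega1.GlobGenPt.germ_res]
  exact Submodule.subset_span ⟨g, rfl⟩

section Bound

open Groth.Agent.FormalB.GlueHom in
/-- If `m` is a sum of products of elements of degree `n` and `d`, the fraction `m / g` with `deg g = d` is a combination
of the sections `b / 1`. -/
theorem germ_tfrac_mem {n d : ℕ} {V : (Proj 𝒜).Opens} {g : A} (hg : g ∈ 𝒜 d) (hV : NV V g) (x : Proj 𝒜) (hx : x ∈ V)
    {m : A} (hm : m ∈ 𝒜 n * 𝒜 d) (hm' : m ∈ zdeg 𝒜 ((d : ℤ) + n)) :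
    (Twist.twist 𝒜 (n : ℤ)).presheaf.germ V x hx (tfrac (n : ℤ) V hg hV hm') ∈
      Submodule.span ((Proj 𝒜).presheaf.stalk x)
        (Set.range fun b : 𝒜 n => ((Twist.twist 𝒜 (n : ℤ)).presheaf.germ ⊤ x trivial).hom
          (Twist.globalOf 𝒜 b : ProjUP.Γm (Twist.twist 𝒜 (n : ℤ)))) := by
  revert hm'
  induction hm using Submodule.mul_induction_on' with
  | mem_mul_mem b hb c hc =>
    intro hm'
    have h1 : tfrac (n : ℤ) V hg hV hm' =
        ofrac V hc hg hV • Groth.Agent.Fdesc.LocGen.res (Twist.twist 𝒜 (n : ℤ)) (le_top : V ≤ ⊤) (glob ⟨b, hb⟩) := by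
      apply tval_ext
      intro y
      rw [tval_smul, oval_ofrac, tval_tfrac]
      have h2 : tval (Groth.Agent.Fdesc.LocGen.res (Twist.twist 𝒜 (n : ℤ)) (le_top : V ≤ ⊤) (glob ⟨b, hb⟩)) y =
        (Localization.mk b 1 : Twist.Loc 𝒜 y.1) := rfl
      rw [h2, Localization.mk_mul, Localization.mk_eq_mk_iff, Localization.r_iff_exists]
      refine ⟨1, ?_⟩
      simp only [OneMemClass.coe_one, one_mul, mul_one]
      ring
    rw [h1, Groth.Agent.Fdesc.Skyscraper.germ_smul, Ega1.GlobGenPt.germ_res]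
    exact Submodule.smul_mem _ _ (Submodule.subset_span ⟨⟨b, hb⟩, rfl⟩)
  | add y hy z hz ihy ihz =>
    intro hm'
    have hy' : y ∈ zdeg 𝒜 ((d : ℤ) + n) := mem_zdeg_of_eq (i := n + d) (by push_cast; ring) (K754.GrGen.mul_le 𝒜 _ _ hy)
    have hz' : z ∈ zdeg 𝒜 ((d : ℤ) + n) := mem_zdeg_of_eq (i := n + d) (by push_cast; ring) (K754.GrGen.mul_le 𝒜 _ _ hz)
    have h1 := tfrac_add (n : ℤ) V hg hV hy' hz'
    rw [← h1, map_add]
    exact Submodule.add_mem _ (ihy hy') (ihz hz')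

variable {s : ℕ} {f : Fin s → A} {deg : Fin s → ℕ}

/-- For `n ≥ (s - 1)(l - 1)`, `O(n)` is generated by the sections `b / 1`, `b` of degree `n`. -/
theorem generatedBy_of_ge (hdeg : ∀ i, 0 < deg i) (hf : ∀ i, f i ∈ 𝒜 (deg i))
    (hgen : Algebra.adjoin R (Set.range f) = ⊤) (n : ℕ) (hn : (s - 1) * (Finset.univ.lcm deg - 1) ≤ n) :
    ProjUP.GeneratedBy (Twist.twist 𝒜 (n : ℤ))
      (fun b : 𝒜 n => (Twist.globalOf 𝒜 b : ProjUP.Γm (Twist.twist 𝒜 (n : ℤ)))) := by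
  intro x
  rw [eq_top_iff]
  rintro t -
  obtain ⟨U, hU, τ, rfl⟩ := TopCat.Presheaf.exists_germ_eq (Twist.twist 𝒜 (n : ℤ)).presheaf t
  obtain ⟨V, hVU, e, g, a, hg, hV, ha, hxV, hτ⟩ := exists_tfrac (𝒜 := 𝒜) τ x hU
  set l := Finset.univ.lcm deg with hl
  have hlpos : 0 < l := K754.GrGen.lcm_pos hdeg
  have ha' : a ∈ 𝒜 (e + n) := mem_of_mem_zdeg (by push_cast; ring) ha
  have hgl : g ^ l ∈ 𝒜 (l * e) := by
    have := SetLike.pow_mem_graded (A := 𝒜) l hg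
    simpa using this
  have hm : g ^ (l - 1) * a ∈ 𝒜 (n + e * l) := by
    have h1 := SetLike.pow_mem_graded (A := 𝒜) (l - 1) hg
    have h2 := SetLike.mul_mem_graded (A := 𝒜) h1 ha'
    have h3 : (l - 1) • e + (e + n) = n + e * l := by
      obtain ⟨l', hl'⟩ : ∃ l', l = l' + 1 := ⟨l - 1, by omega⟩
      rw [hl']
      simp only [Nat.add_sub_cancel, smul_eq_mul]
      ring
    rwa [h3] at h2
  have hm1 : g ^ (l - 1) * a ∈ 𝒜 n * 𝒜 (l * e) := by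
    rw [K754.GrGen.degree_add_mul_lcm 𝒜 hdeg hf hgen n hn e] at hm
    have h4 := K754.GrGen.pow_le 𝒜 l e
    rw [mul_comm e l] at h4
    have h5 : 𝒜 n * 𝒜 l ^ e ≤ 𝒜 n * 𝒜 (l * e) := mul_le_mul' le_rfl h4
    exact h5 hm
  have hm2 : g ^ (l - 1) * a ∈ zdeg 𝒜 (((l * e : ℕ) : ℤ) + n) :=
    mem_zdeg_of_eq (i := n + l * e) (by push_cast; ring) (K754.GrGen.mul_le 𝒜 _ _ hm1)
  have h1 : tfrac (n : ℤ) V hg hV ha = tfrac (n : ℤ) V hgl (hV.pow l) hm2 := by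
    apply tfrac_congr
    obtain ⟨l', hl'⟩ : ∃ l', l = l' + 1 := ⟨l - 1, by omega⟩
    rw [hl', Nat.add_sub_cancel]
    ring
  have h2 := germ_tfrac_mem (n := n) hgl (hV.pow l) x hxV hm1 hm2
  rw [← h1, ← hτ] at h2
  have h3 := Ega1.GlobGenPt.germ_res (Twist.twist 𝒜 (n : ℤ)) hVU x hxV τ
  rw [← h3]
  exact h2

end Bound

end K754.TwGen
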